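import Cfsg.Agent.Lib.Reflections.Spinor

/-!
Finite fields of odd characteristic: homomorphisms from the isometry group to commutative groups,
`Ω` has index 4, the subgroups of index 2.
-/

set_option autoImplicit false
set_option linter.unusedSectionVars false

namespace Cfsg.Agent.Reflections

open Matrix QuadraticMap
open scoped Matrix

variable {ι : Type} [Fintype ι] [DecidableEq ι] {F : Type*} [Field F] [Fintype F]
variable {Q : QuadraticForm F (ι → F)}

theorem exists_nonsquare_scalar (h2 : (2 : F) ≠ 0) : ∃ ε : F, ε ≠ 0 ∧ ¬ IsSquare ε := by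
  have hchar : ringChar F ≠ 2 := fun h => h2 (by
    have := ringChar.Nat.cast_ringChar (R := F); rw [h] at this; exact_mod_cast this)
  obtain ⟨ε, hε⟩ := FiniteField.exists_nonsquare hchar
  exact ⟨ε, fun h => hε (h ▸ IsSquare.zero), hε⟩

theorem square_class {ε : F} (hε : ¬ IsSquare ε) {x : F} (hx : x ≠ 0) :
    (∃ t : F, t ≠ 0 ∧ x = 1 * t ^ 2) ∨ (∃ t : F, t ≠ 0 ∧ x = ε * t ^ 2) := by
  classical
  have hε0 : ε ≠ 0 := fun h => hε (h ▸ IsSquare.zero)
  by_cases h : IsSquare x
  · obtain ⟨t, ht⟩ := h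
    refine Or.inl ⟨t, ?_, by rw [ht]; ring⟩
    rintro rfl; exact hx (by simpa using ht)
  · have hm : IsSquare (x * ε⁻¹) := by
      have h1 := quadraticChar_neg_one_iff_not_isSquare.mpr h
      have h2' : ¬ IsSquare ε⁻¹ := fun ⟨t, ht⟩ => hε ⟨t⁻¹, by rw [← inv_inv ε, ht, mul_inv]⟩
      have h3 := quadraticChar_neg_one_iff_not_isSquare.mpr h2'
      refine (quadraticChar_one_iff_isSquare (mul_ne_zero hx (inv_ne_zero hε0))).mp ?_
      rw [map_mul, h1, h3]; norm_num
    obtain ⟨t, ht⟩ := hm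
    refine Or.inr ⟨t, ?_, ?_⟩
    · rintro rfl
      exact mul_ne_zero hx (inv_ne_zero hε0) (by simpa using ht)
    · have : x = x * ε⁻¹ * ε := by field_simp
      rw [this, ht]; ring

theorem exists_sum_sq (h2 : (2 : F) ≠ 0) {a b : F} (ha : a ≠ 0) (hb : b ≠ 0) (c : F) :
    ∃ s t : F, a * s ^ 2 + b * t ^ 2 = c := by
  have hchar : ringChar F ≠ 2 := fun h => h2 (by
    have := ringChar.Nat.cast_ringChar (R := F); rw [h] at this; exact_mod_cast this)
  open Polynomial in
  obtain ⟨s, t, h⟩ := FiniteField.exists_root_sum_quadratic (f := C a * X ^ 2 - C c)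
    (g := C b * X ^ 2) (by rw [degree_sub_C]; exact degree_C_mul_X_pow 2 ha;
                           rw [degree_C_mul_X_pow 2 ha]; decide)
    (degree_C_mul_X_pow 2 hb) (FiniteField.odd_card_of_char_ne_two hchar)
  refine ⟨s, t, ?_⟩
  simp only [Polynomial.eval_sub, Polynomial.eval_mul, Polynomial.eval_C, Polynomial.eval_pow,
    Polynomial.eval_X] at h
  linear_combination h

theorem finrank_space : Module.finrank F (ι → F) = Fintype.card ι := Module.finrank_fintype_fun_eq_card F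

theorem exists_value (h2 : (2 : F) ≠ 0) (hQ : Q.polarBilin.Nondegenerate)
    (hn : 2 ≤ Fintype.card ι) (c : F) : ∃ v, Q v = c := by
  obtain ⟨e, ho, hne⟩ := exists_orth_basis h2 hQ
  have hd : 2 ≤ Module.finrank F (ι → F) := by rw [finrank_space]; exact hn
  set i : Fin (Module.finrank F (ι → F)) := ⟨0, by omega⟩
  set j : Fin (Module.finrank F (ι → F)) := ⟨1, by omega⟩
  obtain ⟨s, t, h⟩ := exists_sum_sq h2 (hne i) (hne j) c
  refine ⟨s • e i + t • e j, ?_⟩
  rw [map_add', map_smul', map_smul', QuadraticMap.polar_smul_left, QuadraticMap.polar_smul_right,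
    ho i j (by simp [i, j, Fin.ext_iff])]
  simp only [smul_eq_mul, mul_zero, add_zero]
  linear_combination h

/-- A homomorphism to a commutative group takes one value on each square class of reflections. -/
theorem hom_refl_eq {A : Type*} [CommGroup A] (h2 : (2 : F) ≠ 0)
    (ψ : ↥(Cfsg.isometryGroup F ⇑Q) →* A) {u w : ι → F} {t : F} (hu : Q u ≠ 0) (ht : t ≠ 0)
    (h : Q w = Q u * t ^ 2) : ψ (refl Q w) = ψ (refl Q u) := by
  have hw : Q w ≠ 0 := by rw [h]; exact mul_ne_zero hu (pow_ne_zero _ ht)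
  have hw' : Q (t⁻¹ • w) = Q u := by rw [map_smul', h]; field_simp
  obtain ⟨g, -, hg, -⟩ := exists_map_eq h2 hu hw'.symm
  rw [← refl_smul hw (inv_ne_zero ht), ← hg, ← conj_refl g hu, map_mul, map_mul, map_inv,
    mul_inv_cancel_comm]

theorem hom_ext_classes {A : Type*} [CommGroup A] (h2 : (2 : F) ≠ 0)
    (hQ : Q.polarBilin.Nondegenerate) {ε : F} (hε : ¬ IsSquare ε)
    {a b : ι → F} (ha : Q a = 1) (hb : Q b = ε)
    {ψ ψ' : ↥(Cfsg.isometryGroup F ⇑Q) →* A}
    (h1 : ψ (refl Q a) = ψ' (refl Q a)) (h1' : ψ (refl Q b) = ψ' (refl Q b)) : ψ = ψ' := by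
  refine MonoidHom.eq_of_eqOn_dense (show Subgroup.closure (reflSet Q) = ⊤ from
    reflGroup_eq_top_of_two_ne_zero h2 hQ) ?_
  intro g hg
  obtain ⟨v, hv, rfl⟩ := exists_of_mem_reflSet hg
  have hε0 : ε ≠ 0 := fun h => hε (h ▸ IsSquare.zero)
  rcases square_class hε hv with ⟨t, ht, hvt⟩ | ⟨t, ht, hvt⟩
  · have hva : Q v = Q a * t ^ 2 := by rw [ha, hvt]
    rw [hom_refl_eq h2 ψ (by rw [ha]; exact one_ne_zero) ht hva,
      hom_refl_eq h2 ψ' (by rw [ha]; exact one_ne_zero) ht hva, h1]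
  · have hvb : Q v = Q b * t ^ 2 := by rw [hb, hvt]
    rw [hom_refl_eq h2 ψ (by rw [hb]; exact hε0) ht hvb,
      hom_refl_eq h2 ψ' (by rw [hb]; exact hε0) ht hvb, h1']

/-- The pair of signs on `Q = 1` and on `Q = ε`. -/
noncomputable def thetaPair (Q : QuadraticForm F (ι → F)) (ε : F) :
    ↥(Cfsg.isometryGroup F ⇑Q) →* ℤˣ × ℤˣ :=
  (theta Q 1).prod (theta Q ε)

theorem theta_one_a (h2 : (2 : F) ≠ 0) {a : ι → F} (ha : Q a = 1) :
    theta Q 1 (refl Q a) = -1 :=
  theta_refl_of_exists h2 (by rw [ha]; exact one_ne_zero) one_ne_zero ⟨1, by rw [ha]; ring⟩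

theorem theta_eps_a (h2 : (2 : F) ≠ 0) {ε : F} (hε : ¬ IsSquare ε) {a : ι → F} (ha : Q a = 1) :
    theta Q ε (refl Q a) = 1 :=
  theta_refl_of_not_exists h2 (by rw [ha]; exact one_ne_zero) (fun h => hε (h ▸ IsSquare.zero))
    (fun ⟨t, ht⟩ => hε ⟨t, by rw [← ht, ha]; ring⟩)

theorem theta_eps_b (h2 : (2 : F) ≠ 0) {ε : F} (hε : ¬ IsSquare ε) {b : ι → F} (hb : Q b = ε) :
    theta Q ε (refl Q b) = -1 :=
  theta_refl_of_exists h2 (by rw [hb]; exact fun h => hε (h ▸ IsSquare.zero))
    (fun h => hε (h ▸ IsSquare.zero)) ⟨1, by rw [hb]; ring⟩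

theorem theta_one_b (h2 : (2 : F) ≠ 0) {ε : F} (hε : ¬ IsSquare ε) {b : ι → F} (hb : Q b = ε) :
    theta Q 1 (refl Q b) = 1 :=
  theta_refl_of_not_exists h2 (by rw [hb]; exact fun h => hε (h ▸ IsSquare.zero)) one_ne_zero
    (fun ⟨t, ht⟩ => hε ⟨t⁻¹, by
      have ht0 : t ≠ 0 := by rintro rfl; simp at ht
      rw [hb] at ht
      field_simp
      linear_combination ht⟩)

/-- The homomorphism `ℤˣ →* A` taking `-1` to an element of square one. -/
noncomputable def ofInvol {A : Type*} [CommGroup A] (e : A) (he : e * e = 1) : ℤˣ →* A where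
  toFun x := if x = 1 then 1 else e
  map_one' := by simp
  map_mul' x y := by
    rcases Int.units_eq_one_or x with rfl | rfl <;> rcases Int.units_eq_one_or y with rfl | rfl <;>
      simp [he]

theorem thetaPair_surjective (h2 : (2 : F) ≠ 0) (hQ : Q.polarBilin.Nondegenerate)
    (hn : 2 ≤ Fintype.card ι) {ε : F} (hε : ¬ IsSquare ε) :
    Function.Surjective (thetaPair Q ε) := by
  obtain ⟨a, ha⟩ := exists_value h2 hQ hn 1
  obtain ⟨b, hb⟩ := exists_value h2 hQ hn ε
  rintro ⟨x, y⟩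
  rcases Int.units_eq_one_or x with rfl | rfl <;> rcases Int.units_eq_one_or y with rfl | rfl
  · exact ⟨1, map_one _⟩
  · exact ⟨refl Q b, by simp [thetaPair, theta_one_b h2 hε hb, theta_eps_b h2 hε hb]⟩
  · exact ⟨refl Q a, by simp [thetaPair, theta_one_a h2 ha, theta_eps_a h2 hε ha]⟩
  · exact ⟨refl Q a * refl Q b, by
      simp [thetaPair, theta_one_b h2 hε hb, theta_eps_b h2 hε hb, theta_one_a h2 ha,
        theta_eps_a h2 hε ha]⟩

theorem omega_eq_ker (h2 : (2 : F) ≠ 0) (hQ : Q.polarBilin.Nondegenerate)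
    (hn : 2 ≤ Fintype.card ι) {ε : F} (hε : ¬ IsSquare ε) :
    Cfsg.Omega F ⇑Q = (thetaPair Q ε).ker := by
  obtain ⟨a, ha⟩ := exists_value h2 hQ hn 1
  obtain ⟨b, hb⟩ := exists_value h2 hQ hn ε
  have hε0 : ε ≠ 0 := fun h => hε (h ▸ IsSquare.zero)
  refine le_antisymm (Abelianization.commutator_subset_ker _) ?_
  intro g hg
  let π : ↥(Cfsg.isometryGroup F ⇑Q) →* Abelianization ↥(Cfsg.isometryGroup F ⇑Q) :=
    Abelianization.of
  have e1 : π (refl Q a) * π (refl Q a) = 1 := by
    rw [← map_mul, refl_mul_self (by rw [ha]; exact one_ne_zero), map_one]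
  have e2 : π (refl Q b) * π (refl Q b) = 1 := by
    rw [← map_mul, refl_mul_self (by rw [hb]; exact hε0), map_one]
  have key : π = ((ofInvol _ e1).coprod (ofInvol _ e2)).comp (thetaPair Q ε) := by
    refine hom_ext_classes h2 hQ hε ha hb ?_ ?_
    · simp [thetaPair, theta_one_a h2 ha, theta_eps_a h2 hε ha, ofInvol]
    · simp [thetaPair, theta_one_b h2 hε hb, theta_eps_b h2 hε hb, ofInvol]
  have : π g = 1 := by
    rw [key, MonoidHom.comp_apply, MonoidHom.mem_ker.mp hg, map_one]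
  exact (QuotientGroup.eq_one_iff g).mp this

theorem omega_index_four (h2 : (2 : F) ≠ 0) (hQ : Q.polarBilin.Nondegenerate)
    (hn : 2 ≤ Fintype.card ι) : (Cfsg.Omega F ⇑Q).index = 4 := by
  obtain ⟨ε, -, hε⟩ := exists_nonsquare_scalar h2
  rw [omega_eq_ker h2 hQ hn hε, Subgroup.index_ker,
    MonoidHom.range_eq_top.mpr (thetaPair_surjective h2 hQ hn hε)]
  simp [Nat.card_prod, Nat.card_eq_fintype_card]

/-- The character with kernel a subgroup of index two. -/
noncomputable def idxTwoHom {G : Type*} [Group G] (H : Subgroup G) (hH : H.index = 2) :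
    G →* ℤˣ := by
  classical
  exact
  { toFun := fun g => if g ∈ H then 1 else -1
    map_one' := by simp [H.one_mem]
    map_mul' := fun x y => by
      have h := Subgroup.mul_mem_iff_of_index_two hH (a := x) (b := y)
      by_cases hx : x ∈ H <;> by_cases hy : y ∈ H <;> simp [hx, hy, h] }

theorem idxTwoHom_eq_one {G : Type*} [Group G] {H : Subgroup G} (hH : H.index = 2) {g : G} :
    idxTwoHom H hH g = 1 ↔ g ∈ H := by
  classical
  unfold idxTwoHom
  by_cases h : g ∈ H <;> simp [h]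

/-- Products of two reflections. -/
def reflPairs (Q : QuadraticForm F (ι → F)) : Set ↥(Cfsg.isometryGroup F ⇑Q) :=
  {g | ∃ u v : ι → F, Q u ≠ 0 ∧ Q v ≠ 0 ∧
    mat g = Cfsg.reflectionMatrix ⇑Q u * Cfsg.reflectionMatrix ⇑Q v}

theorem reflPairs_mem {u v : ι → F} (hu : Q u ≠ 0) (hv : Q v ≠ 0) :
    refl Q u * refl Q v ∈ reflPairs Q := by
  refine ⟨u, v, hu, hv, ?_⟩
  rw [← mat_refl hu, ← mat_refl hv]; simp [mat]

theorem exists_of_mem_reflPairs {g : ↥(Cfsg.isometryGroup F ⇑Q)} (hg : g ∈ reflPairs Q) :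
    ∃ u v : ι → F, Q u ≠ 0 ∧ Q v ≠ 0 ∧ g = refl Q u * refl Q v := by
  obtain ⟨u, v, hu, hv, h⟩ := hg
  refine ⟨u, v, hu, hv, eq_of_mat ?_⟩
  rw [h, ← mat_refl hu, ← mat_refl hv]; simp [mat]

theorem mem_special_or (h2 : (2 : F) ≠ 0) (hQ : Q.polarBilin.Nondegenerate) {a : ι → F}
    (ha : Q a ≠ 0) (g : ↥(Cfsg.isometryGroup F ⇑Q)) :
    g ∈ Subgroup.closure (reflPairs Q) ∨ refl Q a * g ∈ Subgroup.closure (reflPairs Q) := by
  refine reflGroup_induction (Q := Q) (p := fun g => g ∈ Subgroup.closure (reflPairs Q) ∨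
      refl Q a * g ∈ Subgroup.closure (reflPairs Q)) (Or.inl (one_mem _)) ?_
    (reflGroup_eq_top_of_two_ne_zero h2 hQ ▸ Subgroup.mem_top g)
  rintro v g hv (hg | hg)
  · right
    rw [← mul_assoc]
    exact mul_mem (Subgroup.subset_closure (reflPairs_mem ha hv)) hg
  · left
    have : refl Q v * g = refl Q v * refl Q a * (refl Q a * g) := by
      rw [mul_assoc, ← mul_assoc (refl Q a), refl_mul_self ha, one_mul]
    rw [this]
    exact mul_mem (Subgroup.subset_closure (reflPairs_mem hv ha)) hg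

theorem special_eq_closure (h2 : (2 : F) ≠ 0) (hQ : Q.polarBilin.Nondegenerate) :
    Cfsg.specialIsometryGroup F ⇑Q = Subgroup.closure (reflPairs Q) := by
  have hle : Subgroup.closure (reflPairs Q) ≤ Cfsg.specialIsometryGroup F ⇑Q := by
    rw [Subgroup.closure_le]
    intro g hg
    obtain ⟨u, v, hu, hv, rfl⟩ := exists_of_mem_reflPairs hg
    rw [special_eq, SetLike.mem_coe, MonoidHom.mem_ker, map_mul, detHom_refl hu, detHom_refl hv]
    simp
  refine le_antisymm (fun g hg => ?_) hle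
  by_cases hex : ∃ a, Q a ≠ 0
  · obtain ⟨a, ha⟩ := hex
    rcases mem_special_or h2 hQ ha g with h | h
    · exact h
    · exfalso
      have h1 := hle h
      rw [special_eq, MonoidHom.mem_ker] at hg h1
      rw [map_mul, hg, mul_one, detHom_refl ha] at h1
      refine h2 ?_
      have := congrArg (fun x : Fˣ => (x : F)) h1
      simp at this
      linear_combination -this
  · push Not at hex
    have hg1 : g = 1 := by
      have hm : g ∈ reflGroup Q := reflGroup_eq_top_of_two_ne_zero h2 hQ ▸ Subgroup.mem_top g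
      exact reflGroup_induction (p := fun g => g = 1) rfl (fun v _ hv _ => absurd (hex v) hv) hm
    rw [hg1]; exact one_mem _

theorem special_unique_index_two (h2 : (2 : F) ≠ 0) (hQ : Q.polarBilin.Nondegenerate)
    (hn : 2 ≤ Fintype.card ι) :
    ∃! H : Subgroup ↥(Cfsg.specialIsometryGroup F ⇑Q), H.index = 2 := by
  classical
  obtain ⟨ε, hε0, hε⟩ := exists_nonsquare_scalar h2
  obtain ⟨a, ha⟩ := exists_value h2 hQ hn 1
  obtain ⟨b, hb⟩ := exists_value h2 hQ hn ε
  set S := Cfsg.specialIsometryGroup F ⇑Q with hS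
  have ha0 : Q a ≠ 0 := by rw [ha]; exact one_ne_zero
  have hb0 : Q b ≠ 0 := by rw [hb]; exact hε0
  set r := refl Q a with hr
  have hne : (-1 : Fˣ) ≠ 1 := fun h => h2 (by
    have := congrArg (fun x : Fˣ => (x : F)) h; simp at this; linear_combination -this)
  have hrS : r ∉ S := by
    rw [hS, special_eq, MonoidHom.mem_ker, detHom_refl ha0]; exact hne
  have hdet : ∀ g, detHom Q g = 1 ∨ detHom Q g = -1 := by
    intro g
    refine reflGroup_induction (Q := Q) (p := fun g => detHom Q g = 1 ∨ detHom Q g = -1)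
      (Or.inl (map_one _)) ?_ (reflGroup_eq_top_of_two_ne_zero h2 hQ ▸ Subgroup.mem_top g)
    intro v g hv hg
    rw [map_mul, detHom_refl hv]
    rcases hg with h | h <;> simp [h]
  have hcases : ∀ g, g ∈ S ↔ g * r ∉ S := by
    intro g
    rw [hS, special_eq, MonoidHom.mem_ker, MonoidHom.mem_ker, map_mul, detHom_refl ha0]
    rcases hdet g with h | h <;> simp [h, hne]
  refine ⟨((theta Q ε).comp S.subtype).ker, ?_, ?_⟩
  · show ((theta Q ε).comp S.subtype).ker.index = 2
    have hs : Function.Surjective ((theta Q ε).comp S.subtype) := by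
      intro x
      rcases Int.units_eq_one_or x with rfl | rfl
      · exact ⟨1, map_one _⟩
      · refine ⟨⟨refl Q a * refl Q b, ?_⟩, ?_⟩
        · rw [hS, special_eq, MonoidHom.mem_ker, map_mul, detHom_refl ha0, detHom_refl hb0]; simp
        · simp [theta_eps_a h2 hε ha, theta_eps_b h2 hε hb]
    rw [Subgroup.index_ker, MonoidHom.range_eq_top.mpr hs]
    simp [Nat.card_eq_fintype_card]
  · intro H hH
    set χ := idxTwoHom H hH with hχ
    have hun : ∀ x : ℤˣ, x⁻¹ = x := fun x => Int.units_inv_eq_self x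
    have hP : S = Subgroup.closure (reflPairs Q) := special_eq_closure h2 hQ
    have hconjmem : ∀ g, g ∈ S → r * g * r ∈ S := by
      intro g hg
      rw [hS, special_eq, MonoidHom.mem_ker] at hg ⊢
      rw [map_mul, map_mul, hg, detHom_refl ha0]; simp
    have hr2 : ∀ z, r * (r * z) = z := fun z => by
      rw [← mul_assoc, hr, refl_mul_self ha0, one_mul]
    have hinv : ∀ g (hg : g ∈ S), χ ⟨r * g * r, hconjmem g hg⟩ = χ ⟨g, hg⟩ := by
      intro g hg
      have hg' : g ∈ Subgroup.closure (reflPairs Q) := hP ▸ hg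
      suffices h : ∀ x ∈ Subgroup.closure (reflPairs Q),
          ∀ (h1 : r * x * r ∈ S) (h1' : x ∈ S), χ ⟨r * x * r, h1⟩ = χ ⟨x, h1'⟩ from
        h g hg' _ _
      intro x hx
      induction hx using Subgroup.closure_induction with
      | mem x hx =>
        intro h1 h1'
        obtain ⟨u, v, hu, hv, rfl⟩ := exists_of_mem_reflPairs hx
        have hmem : ∀ {p p' : ι → F}, Q p ≠ 0 → Q p' ≠ 0 → refl Q p * refl Q p' ∈ S :=
          fun hp hp' => hP ▸ Subgroup.subset_closure (reflPairs_mem hp hp')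
        set A : ↥S := ⟨refl Q u * r, hmem hu ha0⟩
        set B : ↥S := ⟨r * refl Q v, hmem ha0 hv⟩
        have e1 : (⟨refl Q u * refl Q v, h1'⟩ : ↥S) = A * B := by
          ext1; simp [A, B, mul_assoc, hr2]
        have e2 : (⟨r * (refl Q u * refl Q v) * r, h1⟩ : ↥S) = A⁻¹ * B⁻¹ := by
          ext1; simp [A, B, hr, refl_inv ha0, refl_inv hu, refl_inv hv, mul_assoc]
        rw [e1, e2, map_mul, map_mul, map_inv, map_inv, hun, hun]
      | one =>
        intro h1 h1'
        congr 1; ext1; simp [hr, refl_mul_self ha0]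
      | mul x y hx hy ihx ihy =>
        intro h1 h1'
        have hxS : x ∈ S := hP ▸ hx
        have hyS : y ∈ S := hP ▸ hy
        have e1 : (⟨r * (x * y) * r, h1⟩ : ↥S)
            = ⟨r * x * r, hconjmem x hxS⟩ * ⟨r * y * r, hconjmem y hyS⟩ := by
          ext1; simp [mul_assoc, hr2]
        rw [e1, map_mul, ihx _ hxS, ihy _ hyS, ← map_mul]; rfl
      | inv x hx ihx =>
        intro h1 h1'
        have hxS : x ∈ S := hP ▸ hx
        have e1 : (⟨r * x⁻¹ * r, h1⟩ : ↥S) = ⟨r * x * r, hconjmem x hxS⟩⁻¹ := by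
          ext1; simp [hr, refl_inv ha0, mul_assoc]
        rw [e1, map_inv, ihx _ hxS, ← map_inv]; rfl
    let κ : ↥(Cfsg.isometryGroup F ⇑Q) → ↥S := fun g =>
      if h : g ∈ S then ⟨g, h⟩ else ⟨g * r, by_contra fun h' => h ((hcases g).mpr h')⟩
    have hκ1 : ∀ g (h : g ∈ S), κ g = ⟨g, h⟩ := fun g h => dif_pos h
    have hκ2 : ∀ g, g ∉ S → ∀ h : g * r ∈ S, κ g = ⟨g * r, h⟩ := fun g h h' => dif_neg h
    let χ' : ↥(Cfsg.isometryGroup F ⇑Q) →* ℤˣ :=
      { toFun := fun g => χ (κ g)
        map_one' := by rw [hκ1 1 (one_mem _)]; exact map_one χ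
        map_mul' := fun g k => by
          by_cases hg : g ∈ S
          · by_cases hk : k ∈ S
            · rw [hκ1 _ hg, hκ1 _ hk, hκ1 _ (mul_mem hg hk), ← map_mul]; rfl
            · have hk' : k * r ∈ S := by_contra fun h => hk ((hcases k).mpr h)
              have hgk : g * k ∉ S := fun h => hk ((mul_mem_cancel_left hg).mp h)
              have hgk' : g * k * r ∈ S := by rw [mul_assoc]; exact mul_mem hg hk'
              rw [hκ1 _ hg, hκ2 _ hk hk', hκ2 _ hgk hgk', ← map_mul]
              congr 1; ext1; simp [mul_assoc]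
          · have hg' : g * r ∈ S := by_contra fun h => hg ((hcases g).mpr h)
            by_cases hk : k ∈ S
            · have hgk : g * k ∉ S := fun h => hg ((mul_mem_cancel_right hk).mp h)
              have hgk' : g * k * r ∈ S := by_contra fun h => hgk ((hcases _).mpr h)
              rw [hκ2 _ hg hg', hκ1 _ hk, hκ2 _ hgk hgk', ← hinv k hk, ← map_mul]
              congr 1; ext1; simp [mul_assoc, hr2]
            · have hk' : k * r ∈ S := by_contra fun h => hk ((hcases k).mpr h)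
              have hgk : g * k = g * r * (r * (k * r) * r) := by
                have : r * r = 1 := refl_mul_self ha0
                simp only [mul_assoc, this, mul_one, hr2]
              have hgk' : g * k ∈ S := hgk ▸ mul_mem hg' (hconjmem _ hk')
              rw [hκ2 _ hg hg', hκ2 _ hk hk', hκ1 _ hgk', ← hinv (k * r) hk', ← map_mul]
              congr 1; ext1; exact hgk }
    have hχ'a : χ' r = 1 := by
      show χ (κ r) = 1
      have hrr : r * r ∈ S := by rw [hr, refl_mul_self ha0]; exact one_mem _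
      rw [hκ2 r hrS hrr]
      have : (⟨r * r, hrr⟩ : ↥S) = 1 := by ext1; simp [hr, refl_mul_self ha0]
      rw [this, map_one]
    have hχ'S : ∀ g (h : g ∈ S), χ' g = χ ⟨g, h⟩ := fun g h => by
      show χ (κ g) = _
      rw [hκ1 g h]
    rcases Int.units_eq_one_or (χ' (refl Q b)) with h | h
    · exfalso
      have htriv : χ' = 1 := hom_ext_classes h2 hQ hε ha hb (by simpa using hχ'a) (by simpa using h)
      have : H = ⊤ := by
        rw [eq_top_iff]
        rintro ⟨g, hg⟩ -
        rw [← idxTwoHom_eq_one hH, ← hχ, ← hχ'S g hg, htriv]; rfl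
      rw [this, Subgroup.index_top] at hH
      omega
    · have heq : χ' = theta Q ε := hom_ext_classes h2 hQ hε ha hb
        (by rw [← hr, hχ'a, hr, theta_eps_a h2 hε ha]) (by rw [h, theta_eps_b h2 hε hb])
      ext ⟨g, hg⟩
      rw [MonoidHom.mem_ker, MonoidHom.comp_apply, Subgroup.subtype_apply,
        ← idxTwoHom_eq_one hH, ← hχ, ← hχ'S g hg, heq]

theorem three_index_two (h2 : (2 : F) ≠ 0) (hQ : Q.polarBilin.Nondegenerate)
    (hn : 2 ≤ Fintype.card ι) :
    Nat.card {H : Subgroup ↥(Cfsg.isometryGroup F ⇑Q) // H.index = 2} = 3 := by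
  classical
  obtain ⟨ε, hε0, hε⟩ := exists_nonsquare_scalar h2
  obtain ⟨a, ha⟩ := exists_value h2 hQ hn 1
  obtain ⟨b, hb⟩ := exists_value h2 hQ hn ε
  set K1 := (theta Q 1).ker
  set K2 := (theta Q ε).ker
  set K3 := (theta Q 1 * theta Q ε).ker
  have v1 : refl Q a ∉ K1 ∧ refl Q b ∈ K1 := by
    simp [K1, theta_one_a h2 ha, theta_one_b h2 hε hb]
  have v2 : refl Q a ∈ K2 ∧ refl Q b ∉ K2 := by
    simp [K2, theta_eps_a h2 hε ha, theta_eps_b h2 hε hb]
  have v3 : refl Q a ∉ K3 ∧ refl Q b ∉ K3 := by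
    simp [K3, theta_one_a h2 ha, theta_one_b h2 hε hb, theta_eps_a h2 hε ha,
      theta_eps_b h2 hε hb]
  have idx : ∀ (χ : ↥(Cfsg.isometryGroup F ⇑Q) →* ℤˣ) g, g ∉ χ.ker → χ.ker.index = 2 := by
    intro χ g hg
    have hs : Function.Surjective χ := by
      intro x
      rcases Int.units_eq_one_or x with rfl | rfl
      · exact ⟨1, map_one _⟩
      · exact ⟨g, (Int.units_eq_one_or _).resolve_left hg⟩
    rw [Subgroup.index_ker, MonoidHom.range_eq_top.mpr hs]
    simp [Nat.card_eq_fintype_card]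
  have hset : {H : Subgroup ↥(Cfsg.isometryGroup F ⇑Q) | H.index = 2} = {K1, K2, K3} := by
    ext H
    simp only [Set.mem_setOf_eq, Set.mem_insert_iff, Set.mem_singleton_iff]
    constructor
    · intro hH
      set χ := idxTwoHom H hH with hχ
      have hHeq : ∀ ψ : ↥(Cfsg.isometryGroup F ⇑Q) →* ℤˣ, χ = ψ → H = ψ.ker := by
        intro ψ e; ext g; rw [MonoidHom.mem_ker, ← e, hχ, idxTwoHom_eq_one hH]
      rcases Int.units_eq_one_or (χ (refl Q a)) with ea | ea <;>
        rcases Int.units_eq_one_or (χ (refl Q b)) with eb | eb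
      · exfalso
        have : χ = 1 := hom_ext_classes h2 hQ hε ha hb (by simp [ea]) (by simp [eb])
        have : H = ⊤ := by rw [hHeq 1 this, MonoidHom.ker_one]
        rw [this, Subgroup.index_top] at hH; omega
      · right; left
        exact hHeq _ (hom_ext_classes h2 hQ hε ha hb (by rw [ea, theta_eps_a h2 hε ha])
          (by rw [eb, theta_eps_b h2 hε hb]))
      · left
        exact hHeq _ (hom_ext_classes h2 hQ hε ha hb (by rw [ea, theta_one_a h2 ha])
          (by rw [eb, theta_one_b h2 hε hb]))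
      · right; right
        exact hHeq _ (hom_ext_classes h2 hQ hε ha hb
          (by rw [ea, MonoidHom.mul_apply, theta_one_a h2 ha, theta_eps_a h2 hε ha, mul_one])
          (by rw [eb, MonoidHom.mul_apply, theta_one_b h2 hε hb, theta_eps_b h2 hε hb, one_mul]))
    · rintro (rfl | rfl | rfl)
      · exact idx _ _ v1.1
      · exact idx _ _ v2.2
      · exact idx _ _ v3.1
  show Nat.card ↥{H : Subgroup ↥(Cfsg.isometryGroup F ⇑Q) | H.index = 2} = 3
  rw [hset, Nat.card_coe_set_eq, Set.ncard_eq_three]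
  refine ⟨K1, K2, K3, ?_, ?_, ?_, rfl⟩
  · intro e; exact v1.1 (e ▸ v2.1)
  · intro e; exact v3.2 (e ▸ v1.2)
  · intro e; exact v3.1 (e ▸ v2.1)

end Cfsg.Agent.Reflections
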