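import Cfsg.Agent.Lib.Reflections.Basic

/-!
Siegel transformations of a quadratic form.
-/

set_option autoImplicit false
set_option linter.unusedSectionVars false

namespace Cfsg.Agent.Reflections

open Matrix QuadraticMap
open scoped Matrix

variable {ι : Type} [Fintype ι] [DecidableEq ι] {F : Type*} [Field F]

theorem siegel_mulVec (Q : QuadraticForm F (ι → F)) (u v x : ι → F) (c : F) :
    Cfsg.siegelMatrix ⇑Q u v c *ᵥ x
      = x + (c * polar ⇑Q u x) • v - (c * polar ⇑Q v x) • u := by
  rw [Cfsg.siegelMatrix, Matrix.add_mulVec, Matrix.one_mulVec, Matrix.smul_mulVec,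
    Matrix.sub_mulVec, Matrix.vecMulVec_mulVec, Matrix.vecMulVec_mulVec, polarVec_dot, polarVec_dot]
  funext i
  simp only [Pi.add_apply, Pi.sub_apply, Pi.smul_apply, smul_eq_mul, MulOpposite.smul_eq_mul_unop,
    MulOpposite.unop_op]
  ring

theorem siegel_preserves (Q : QuadraticForm F (ι → F)) {u v : ι → F} (hu : Q u = 0) (hv : Q v = 0)
    (huv : polar ⇑Q u v = 0) (c : F) (x : ι → F) :
    Q (Cfsg.siegelMatrix ⇑Q u v c *ᵥ x) = Q x := by
  rw [siegel_mulVec, map_sub', map_add', map_smul', map_smul', QuadraticMap.polar_smul_right,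
    QuadraticMap.polar_smul_right, QuadraticMap.polar_add_left, QuadraticMap.polar_smul_left,
    hu, hv, polar_comm ⇑Q v u, huv, polar_comm ⇑Q x v, polar_comm ⇑Q x u]
  simp only [smul_eq_mul]
  ring

theorem siegel_fix (Q : QuadraticForm F (ι → F)) {u v : ι → F} (hu : Q u = 0) (hv : Q v = 0)
    (huv : polar ⇑Q u v = 0) (c : F) :
    Cfsg.siegelMatrix ⇑Q u v c *ᵥ u = u ∧ Cfsg.siegelMatrix ⇑Q u v c *ᵥ v = v := by
  constructor <;>
    rw [siegel_mulVec, polar_self'] <;>
    simp [hu, hv, huv, polar_comm ⇑Q v u]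

theorem siegel_mul (Q : QuadraticForm F (ι → F)) {u v : ι → F} (hu : Q u = 0) (hv : Q v = 0)
    (huv : polar ⇑Q u v = 0) (c d : F) :
    Cfsg.siegelMatrix ⇑Q u v c * Cfsg.siegelMatrix ⇑Q u v d
      = Cfsg.siegelMatrix ⇑Q u v (c + d) := by
  apply Matrix.ext_iff_mulVec.mpr
  intro x
  rw [← Matrix.mulVec_mulVec, siegel_mulVec Q u v x d, Matrix.mulVec_sub, Matrix.mulVec_add,
    Matrix.mulVec_smul, Matrix.mulVec_smul, (siegel_fix Q hu hv huv c).1,
    (siegel_fix Q hu hv huv c).2, siegel_mulVec, siegel_mulVec]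
  module

theorem siegel_zero (Q : QuadraticForm F (ι → F)) (u v : ι → F) :
    Cfsg.siegelMatrix ⇑Q u v 0 = 1 := by
  simp [Cfsg.siegelMatrix]

theorem det_siegel_ne_zero (Q : QuadraticForm F (ι → F)) {u v : ι → F} (hu : Q u = 0)
    (hv : Q v = 0) (huv : polar ⇑Q u v = 0) (c : F) :
    (Cfsg.siegelMatrix ⇑Q u v c).det ≠ 0 := by
  have h := siegel_mul Q hu hv huv c (-c)
  rw [add_neg_cancel, siegel_zero] at h
  intro h0
  have := congrArg Matrix.det h
  rw [Matrix.det_mul, h0, zero_mul, Matrix.det_one] at this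
  exact zero_ne_one this

/-- The Siegel transformation as an isometry. -/
noncomputable def siegel (Q : QuadraticForm F (ι → F)) {u v : ι → F} (hu : Q u = 0) (hv : Q v = 0)
    (huv : polar ⇑Q u v = 0) (c : F) : ↥(Cfsg.isometryGroup F ⇑Q) :=
  mkIsom Q _ (det_siegel_ne_zero Q hu hv huv c) (siegel_preserves Q hu hv huv c)

theorem act_siegel (Q : QuadraticForm F (ι → F)) {u v : ι → F} (hu : Q u = 0) (hv : Q v = 0)
    (huv : polar ⇑Q u v = 0) (c : F) (x : ι → F) :
    act (siegel Q hu hv huv c) x = x + (c * polar ⇑Q u x) • v - (c * polar ⇑Q v x) • u := by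
  rw [act, siegel, mat_mkIsom, siegel_mulVec]

theorem siegel_add (Q : QuadraticForm F (ι → F)) {u v : ι → F} (hu : Q u = 0) (hv : Q v = 0)
    (huv : polar ⇑Q u v = 0) (c d : F) :
    siegel Q hu hv huv c * siegel Q hu hv huv d = siegel Q hu hv huv (c + d) := by
  apply eq_of_mat
  show mat (siegel Q hu hv huv c) * mat (siegel Q hu hv huv d) = _
  rw [siegel, siegel, siegel, mat_mkIsom, mat_mkIsom, mat_mkIsom, siegel_mul Q hu hv huv]

/-- In odd characteristic a Siegel transformation is a commutator. -/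
theorem siegel_commutator (h2 : (2 : F) ≠ 0) (Q : QuadraticForm F (ι → F))
    (hQ : Q.polarBilin.Nondegenerate) (u v : ι → F) (hu : Q u = 0) (hv : Q v = 0)
    (huv : polar ⇑Q u v = 0) (c : F) (g : ↥(Cfsg.isometryGroup F ⇑Q))
    (hg : mat g = Cfsg.siegelMatrix ⇑Q u v c) :
    g ∈ commutatorSet ↥(Cfsg.isometryGroup F ⇑Q) ∧ g ∈ Cfsg.Omega F ⇑Q := by
  suffices h : g ∈ commutatorSet ↥(Cfsg.isometryGroup F ⇑Q) by
    exact ⟨h, by rw [Cfsg.Omega, commutator_eq_closure]; exact Subgroup.subset_closure h⟩
  by_cases hli : LinearIndependent F ![u, v]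
  · obtain ⟨y, hy⟩ := exists_polar_eq hQ hli ![1, 0]
    have hy1 : polar ⇑Q u y = 1 := hy 0
    have hy2 : polar ⇑Q v y = 0 := hy 1
    set w := y - Q y • u with hw
    have hw0 : Q w = 0 := by
      rw [hw, map_sub', map_smul', hu, QuadraticMap.polar_smul_right, polar_comm ⇑Q y u, hy1,
        smul_eq_mul]; ring
    have hw1 : polar ⇑Q u w = 1 := by
      rw [hw, QuadraticMap.polar_sub_right, hy1, QuadraticMap.polar_smul_right, polar_self', hu]
      simp
    have hw2 : polar ⇑Q v w = 0 := by
      rw [hw, QuadraticMap.polar_sub_right, hy2, QuadraticMap.polar_smul_right, polar_comm ⇑Q v u,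
        huv]
      simp
    have ha : Q (u + w) = 1 := by rw [map_add', hu, hw0, hw1]; ring
    have hb : Q (u - w) = -1 := by rw [map_sub', hu, hw0, hw1]; ring
    set h := refl Q (u + w) * refl Q (u - w) with hh
    have ha0 : Q (u + w) ≠ 0 := by rw [ha]; exact one_ne_zero
    have hb0 : Q (u - w) ≠ 0 := by rw [hb]; simp
    have hwu : polar ⇑Q w u = 1 := by rw [polar_comm, hw1]
    have hwv : polar ⇑Q w v = 0 := by rw [polar_comm, hw2]
    have huu : polar ⇑Q u u = 0 := by rw [polar_self', hu, mul_zero]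
    have hww : polar ⇑Q w w = 0 := by rw [polar_self', hw0, mul_zero]
    have hhu : act h u = -u := by
      have e1 : act (refl Q (u - w)) u = w := by
        rw [act_refl hb0, hb, QuadraticMap.polar_sub_left, huu, hwu]
        simp
      have e2 : act (refl Q (u + w)) w = -u := by
        rw [act_refl ha0, ha, QuadraticMap.polar_add_left, hw1, hww]
        simp
      rw [hh, act_mul, e1, e2]
    have hhv : act h v = v := by
      rw [hh, act_mul,
        refl_fix hb0 (by rw [QuadraticMap.polar_sub_left, huv, hwv]; simp),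
        refl_fix ha0 (by rw [QuadraticMap.polar_add_left, huv, hwv]; simp)]
    refine ⟨h, siegel Q hu hv huv (-(c / 2)), ?_⟩
    have hconj : h * siegel Q hu hv huv (-(c / 2)) * h⁻¹ = siegel Q hu hv huv (c / 2) := by
      refine isom_ext fun x => ?_
      rw [act_mul, act_mul, act_siegel, act_siegel, act_sub, act_add, act_smul, act_smul, hhu, hhv,
        act_act_inv, ← act_polar h u (act h⁻¹ x), ← act_polar h v (act h⁻¹ x), hhu, hhv,
        act_act_inv, QuadraticMap.polar_neg_left]
      module
    rw [commutatorElement_def, hconj]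
    have hinv : (siegel Q hu hv huv (-(c / 2)))⁻¹ = siegel Q hu hv huv (c / 2) := by
      refine inv_eq_of_mul_eq_one_right (eq_of_mat ?_)
      rw [siegel_add, siegel, mat_mkIsom, neg_add_cancel, siegel_zero]; simp [mat]
    haveI : NeZero (2 : F) := ⟨h2⟩
    rw [hinv, siegel_add, add_halves]
    exact (eq_of_mat (by rw [hg, siegel, mat_mkIsom])).symm
  · have hM : Cfsg.siegelMatrix ⇑Q u v c = 1 := by
      apply Matrix.ext_iff_mulVec.mpr
      intro x
      rw [siegel_mulVec, Matrix.one_mulVec]
      rw [LinearIndependent.pair_iff] at hli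
      push Not at hli
      obtain ⟨s, t, hst, hne⟩ := hli
      by_cases ht : t = 0
      · have hs : s ≠ 0 := fun h => hne h ht
        rw [ht, zero_smul, add_zero] at hst
        have : u = 0 := (smul_eq_zero.mp hst).resolve_left hs
        simp [this]
      · have : v = (-(s / t)) • u := by
          funext i
          have := congrFun hst i
          simp only [Pi.add_apply, Pi.smul_apply, Pi.zero_apply, smul_eq_mul] at this ⊢
          field_simp
          linear_combination this
        rw [this, QuadraticMap.polar_smul_left, smul_eq_mul]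
        module
    have : g = 1 := eq_of_mat (by rw [hg, hM]; simp [mat])
    rw [this]
    exact one_mem_commutatorSet _

end Cfsg.Agent.Reflections
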