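import Cfsg.Agent.Lib.Reflections.OddIndex
import Cfsg.Agent.Lib.Reflections.Siegel

/-!
Odd characteristic, finite fields: `Ω` is generated by Siegel transformations in dimension at least five;
the subgroup generated by one class of reflections.
-/

set_option autoImplicit false
set_option linter.unusedSectionVars false

namespace Cfsg.Agent.Reflections

open Matrix QuadraticMap
open scoped Matrix commutatorElement

variable {ι : Type} [Fintype ι] [DecidableEq ι] {F : Type*} [Field F]
variable {Q : QuadraticForm F (ι → F)}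

theorem exists_orth (Q : QuadraticForm F (ι → F)) {k : Type} [Fintype k] (p : k → ι → F)
    (hk : Fintype.card k < Fintype.card ι) : ∃ y, y ≠ 0 ∧ ∀ i, polar ⇑Q (p i) y = 0 := by
  let L : (ι → F) →ₗ[F] (k → F) := LinearMap.pi fun i => Q.polarBilin (p i)
  have h : LinearMap.ker L ≠ ⊥ := LinearMap.ker_ne_bot_of_finrank_lt (by
    rw [Module.finrank_fintype_fun_eq_card, Module.finrank_fintype_fun_eq_card]; exact hk)
  obtain ⟨y, hy, hy0⟩ := Submodule.exists_mem_ne_zero_of_ne_bot h
  exact ⟨y, hy0, fun i => congrFun (LinearMap.mem_ker.mp hy) i⟩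

/-- A vector independent of `p`: perpendicular to each member of the family, outside the span. -/
theorem li_cons {k : ℕ} {p : Fin k → ι → F} (hp : LinearIndependent F p) {y : ι → F}
    (hy : y ∉ Submodule.span F (Set.range p)) : LinearIndependent F (Fin.cons y p : Fin (k + 1) → ι → F) :=
  linearIndependent_finCons.mpr ⟨hp, hy⟩

variable [Fintype F]

/-- A perpendicular singular vector exists as soon as three dimensions are left. -/
theorem exists_singular_orth (h2 : (2 : F) ≠ 0) (Q : QuadraticForm F (ι → F)) {k : Type} [Fintype k]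
    (p : k → ι → F) (hk : Fintype.card k + 3 ≤ Fintype.card ι) :
    ∃ y, y ≠ 0 ∧ Q y = 0 ∧ ∀ i, polar ⇑Q (p i) y = 0 := by
  classical
  obtain ⟨x, hx0, hx⟩ := exists_orth Q p (by omega)
  by_cases hxq : Q x = 0
  · exact ⟨x, hx0, hxq, hx⟩
  obtain ⟨y, hy0, hy⟩ := exists_orth Q (fun o : Option k => o.elim x p) (by simp; omega)
  by_cases hyq : Q y = 0
  · exact ⟨y, hy0, hyq, fun i => hy (some i)⟩
  obtain ⟨z, hz0, hz⟩ := exists_orth Q (fun o : Option (Option k) => o.elim y (fun o => o.elim x p))
    (by simp; omega)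
  by_cases hzq : Q z = 0
  · exact ⟨z, hz0, hzq, fun i => hz (some (some i))⟩
  obtain ⟨s, t, hst⟩ := exists_sum_sq h2 hxq hyq (-Q z)
  have hxy : polar ⇑Q x y = 0 := hy none
  have hxz : polar ⇑Q x z = 0 := hz (some none)
  have hyz : polar ⇑Q y z = 0 := hz none
  refine ⟨s • x + t • y + z, ?_, ?_, fun i => ?_⟩
  · intro h
    have h' := congrArg (fun w => polar ⇑Q z w) h
    simp only [QuadraticMap.polar_add_right, QuadraticMap.polar_smul_right,
      polar_comm ⇑Q z x, polar_comm ⇑Q z y, hxz, hyz, polar_self',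
      QuadraticMap.polar_zero_right, smul_eq_mul, mul_zero, zero_add] at h'
    exact mul_ne_zero h2 hzq h'
  · rw [map_add', map_add', map_smul', map_smul', QuadraticMap.polar_add_left,
      QuadraticMap.polar_smul_left, QuadraticMap.polar_smul_left, QuadraticMap.polar_smul_left,
      QuadraticMap.polar_smul_right, hxy, hxz, hyz]
    simp only [smul_eq_mul, mul_zero, add_zero]
    linear_combination hst
  · simp [QuadraticMap.polar_add_right, QuadraticMap.polar_smul_right, hx i, hy (some i), hz (some (some i))]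
    have h1 : polar ⇑Q (p i) y = 0 := hy (some i)
    have h2' : polar ⇑Q (p i) z = 0 := hz (some (some i))
    simp [h1, h2']

/-- Universality on the orthogonal complement of a non-degenerate span, two dimensions left. -/
theorem exists_value_orth (h2 : (2 : F) ≠ 0) (hQ : Q.polarBilin.Nondegenerate) {k : ℕ}
    {p : Fin k → ι → F} (hp : LinearIndependent F p)
    (hrad : ∀ x ∈ Submodule.span F (Set.range p), (∀ i, polar ⇑Q (p i) x = 0) → x = 0)
    (hk : k + 2 ≤ Fintype.card ι) (c : F) :
    ∃ x, Q x = c ∧ ∀ i, polar ⇑Q (p i) x = 0 := by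
  have single : ∀ y, y ≠ 0 → Q y = 0 → (∀ i, polar ⇑Q (p i) y = 0) →
      ∃ x, Q x = c ∧ ∀ i, polar ⇑Q (p i) x = 0 := by
    intro y hy0 hyq hy
    obtain ⟨z, hz⟩ := exists_polar_eq hQ (li_cons hp (fun hm => hy0 (hrad y hm hy)))
      (Fin.cons 1 0 : Fin (k + 1) → F)
    have hyz : polar ⇑Q y z = 1 := by simpa using hz 0
    have hpz : ∀ i, polar ⇑Q (p i) z = 0 := fun i => by simpa using hz i.succ
    refine ⟨z + (c - Q z) • y, ?_, fun i => ?_⟩
    · rw [map_add', map_smul', hyq, QuadraticMap.polar_smul_right, polar_comm, hyz, smul_eq_mul]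
      ring
    · rw [QuadraticMap.polar_add_right, QuadraticMap.polar_smul_right, hpz, hy, smul_zero, add_zero]
  obtain ⟨x, hx0, hx⟩ := exists_orth Q p (by simp; omega)
  by_cases hxq : Q x = 0
  · exact single x hx0 hxq hx
  obtain ⟨y, hy0, hy⟩ := exists_orth Q (Fin.cons x p : Fin (k + 1) → ι → F) (by simp; omega)
  have hxy : polar ⇑Q x y = 0 := by simpa using hy 0
  have hpy : ∀ i, polar ⇑Q (p i) y = 0 := fun i => by simpa using hy i.succ
  by_cases hyq : Q y = 0
  · exact single y hy0 hyq hpy
  obtain ⟨s, t, hst⟩ := exists_sum_sq h2 hxq hyq c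
  refine ⟨s • x + t • y, ?_, fun i => by
    simp [QuadraticMap.polar_add_right, QuadraticMap.polar_smul_right, hx i, hpy i]⟩
  rw [map_add', map_smul', map_smul', QuadraticMap.polar_smul_left, QuadraticMap.polar_smul_right,
    hxy]
  simp only [smul_eq_mul, mul_zero, add_zero]
  linear_combination hst

/-- The set of Siegel transformations. -/
def siegelSet (Q : QuadraticForm F (ι → F)) : Set ↥(Cfsg.isometryGroup F ⇑Q) :=
  {g | ∃ (u v : ι → F) (c : F), Q u = 0 ∧ Q v = 0 ∧ polar ⇑Q u v = 0 ∧
    mat g = Cfsg.siegelMatrix ⇑Q u v c}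

theorem siegelGroup_normal (Q : QuadraticForm F (ι → F)) :
    (Subgroup.closure (siegelSet Q)).Normal := by
  constructor
  intro g hg h
  have hle : (Subgroup.closure (siegelSet Q)).map (MulAut.conj h).toMonoidHom
      ≤ Subgroup.closure (siegelSet Q) := by
    rw [MonoidHom.map_closure, Subgroup.closure_le]
    rintro _ ⟨x, ⟨u, v, c, hu, hv, huv, hx⟩, rfl⟩
    apply Subgroup.subset_closure
    refine ⟨act h u, act h v, c, by rwa [act_Q], by rwa [act_Q], by rwa [act_polar], ?_⟩
    have hx' : x = siegel Q hu hv huv c := eq_of_mat (by rw [hx, siegel, mat_mkIsom])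
    apply Matrix.ext_iff_mulVec.mpr
    intro y
    show act (h * x * h⁻¹) y = _
    rw [siegel_mulVec, act_mul, act_mul, hx', act_siegel, act_sub, act_add, act_smul, act_smul,
      act_act_inv, ← act_polar h u (act h⁻¹ y), ← act_polar h v (act h⁻¹ y), act_act_inv]
  exact hle ⟨g, hg, rfl⟩

/-- The Eichler map of a pair, as a plain function. -/
def eichMap (Q : QuadraticForm F (ι → F)) (e a x : ι → F) : ι → F :=
  x + polar ⇑Q x e • a - polar ⇑Q x a • e - (Q a * polar ⇑Q x e) • e

theorem eichMap_add (Q : QuadraticForm F (ι → F)) {e a b : ι → F} (he : Q e = 0)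
    (ha : polar ⇑Q e a = 0) (hb : polar ⇑Q e b = 0) (x : ι → F) :
    eichMap Q e a (eichMap Q e b x) = eichMap Q e (a + b) x := by
  simp only [eichMap, QuadraticMap.polar_sub_left, QuadraticMap.polar_add_left,
    QuadraticMap.polar_smul_left, QuadraticMap.polar_add_right, map_add', polar_self', he,
    polar_comm ⇑Q b e, ha, hb, smul_eq_mul, polar_comm ⇑Q b a, mul_zero, sub_zero, add_zero]
  match_scalars <;> ring

/-- The vectors `a` for which the Eichler map of `(e, a)` lies in the Siegel group. -/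
theorem eich_mem_of_span (Q : QuadraticForm F (ι → F)) {e : ι → F} (he : Q e = 0) {a : ι → F}
    (ha : a ∈ Submodule.span F {s | Q s = 0 ∧ polar ⇑Q e s = 0}) :
    polar ⇑Q e a = 0 ∧ ∃ g ∈ Subgroup.closure (siegelSet Q), ∀ x, act g x = eichMap Q e a x := by
  suffices h : ∀ k : F, polar ⇑Q e (k • a) = 0 ∧
      ∃ g ∈ Subgroup.closure (siegelSet Q), ∀ x, act g x = eichMap Q e (k • a) x by
    simpa using h 1
  induction ha using Submodule.span_induction with
  | mem s hs =>
    obtain ⟨hs, hes⟩ := hs
    intro c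
    refine ⟨by rw [QuadraticMap.polar_smul_right, hes, smul_zero],
      siegel Q he hs hes c,
      Subgroup.subset_closure ⟨e, s, c, he, hs, hes, by rw [siegel, mat_mkIsom]⟩, fun x => ?_⟩
    rw [act_siegel, eichMap, QuadraticMap.polar_smul_right, map_smul', hs, polar_comm ⇑Q x e,
      polar_comm ⇑Q x s, smul_eq_mul]
    module
  | zero => exact fun k => ⟨by simp, 1, one_mem _, fun x => by simp [eichMap]⟩
  | add a b _ _ iha ihb =>
    intro k
    obtain ⟨ha1, g, hg, hga⟩ := iha k
    obtain ⟨hb1, h, hh, hhb⟩ := ihb k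
    rw [smul_add]
    exact ⟨by rw [QuadraticMap.polar_add_right, ha1, hb1, add_zero], g * h, mul_mem hg hh,
      fun x => by rw [act_mul, hhb, hga, eichMap_add Q he ha1 hb1]⟩
  | smul t a _ iha =>
    intro k
    rw [smul_smul]
    exact iha (k * t)

/-- Perpendicular singular vectors span, given a hyperbolic pair in the perpendicular space. -/
theorem mem_span_singular (Q : QuadraticForm F (ι → F)) {e s t x : ι → F} (hs : Q s = 0)
    (ht : Q t = 0) (hst : polar ⇑Q s t = 1) (hes : polar ⇑Q e s = 0) (het : polar ⇑Q e t = 0)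
    (hex : polar ⇑Q e x = 0) :
    x ∈ Submodule.span F {y | Q y = 0 ∧ polar ⇑Q e y = 0} := by
  set p := polar ⇑Q s x with hp
  set r := polar ⇑Q t x with hr
  set x' := x - r • s - p • t with hx'
  have hxs : polar ⇑Q x' s = 0 := by
    rw [hx', QuadraticMap.polar_sub_left, QuadraticMap.polar_sub_left, QuadraticMap.polar_smul_left,
      QuadraticMap.polar_smul_left, polar_self', hs, polar_comm ⇑Q x s, polar_comm ⇑Q t s, hst, ← hp]
    simp
  have hxt : polar ⇑Q x' t = 0 := by
    rw [hx', QuadraticMap.polar_sub_left, QuadraticMap.polar_sub_left, QuadraticMap.polar_smul_left,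
      QuadraticMap.polar_smul_left, polar_self', ht, polar_comm ⇑Q x t, hst, ← hr]
    simp
  have hex' : polar ⇑Q e x' = 0 := by
    simp [hx', QuadraticMap.polar_sub_right, QuadraticMap.polar_smul_right, hex, hes, het]
  set y := x' + s - Q x' • t with hy
  have hyq : Q y = 0 := by
    rw [hy, map_sub', map_add', map_smul', hs, ht, hxs, QuadraticMap.polar_smul_right,
      QuadraticMap.polar_add_left, hxt, hst]
    simp
  have hey : polar ⇑Q e y = 0 := by
    simp [hy, QuadraticMap.polar_sub_right, QuadraticMap.polar_add_right,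
      QuadraticMap.polar_smul_right, hex', hes, het]
  have hx : x = y + (r - 1) • s + (Q x' + p) • t := by rw [hy, hx']; module
  rw [hx]
  exact add_mem (add_mem (Submodule.subset_span ⟨hyq, hey⟩)
    (Submodule.smul_mem _ _ (Submodule.subset_span ⟨hs, hes⟩)))
    (Submodule.smul_mem _ _ (Submodule.subset_span ⟨ht, het⟩))

theorem exists_pair_orth (h2 : (2 : F) ≠ 0) (hQ : Q.polarBilin.Nondegenerate) {e : ι → F}
    (he0 : e ≠ 0) (hn : 5 ≤ Fintype.card ι) :
    ∃ s t, Q s = 0 ∧ Q t = 0 ∧ polar ⇑Q s t = 1 ∧ polar ⇑Q e s = 0 ∧ polar ⇑Q e t = 0 := by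
  obtain ⟨z, hz⟩ := exists_polar_eq_one hQ he0
  obtain ⟨s, hs0, hs, hsp⟩ := exists_singular_orth h2 Q ![e, z] (by simp; omega)
  have hes : polar ⇑Q e s = 0 := hsp 0
  have hzs : polar ⇑Q z s = 0 := hsp 1
  have hli : LinearIndependent F ![e, s] := by
    rw [LinearIndependent.pair_iff' he0]
    intro k hk
    rw [← hk, QuadraticMap.polar_smul_right, polar_comm, hz, smul_eq_mul, mul_one] at hzs
    exact hs0 (by rw [← hk, hzs, zero_smul])
  obtain ⟨y, hy⟩ := exists_polar_eq hQ hli ![0, 1]
  have hey : polar ⇑Q e y = 0 := hy 0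
  have hsy : polar ⇑Q s y = 1 := hy 1
  refine ⟨s, y - Q y • s, hs, ?_, ?_, hes, ?_⟩
  · rw [map_sub', map_smul', hs, QuadraticMap.polar_smul_right, polar_comm, hsy]; simp
  · rw [QuadraticMap.polar_sub_right, hsy, QuadraticMap.polar_smul_right, polar_self', hs]; simp
  · simp [QuadraticMap.polar_sub_right, QuadraticMap.polar_smul_right, hey, hes]

/-- Two reflections in a degenerate pair give an element of the Siegel group. -/
theorem refl_pair_degenerate (h2 : (2 : F) ≠ 0) (hQ : Q.polarBilin.Nondegenerate)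
    (hn : 5 ≤ Fintype.card ι) {u e : ι → F} (hu : Q u ≠ 0) (he : Q e = 0)
    (hue : polar ⇑Q u e = 0) :
    refl Q u * refl Q (u + e) ∈ Subgroup.closure (siegelSet Q) := by
  by_cases he0 : e = 0
  · rw [he0, add_zero, refl_mul_self hu]; exact one_mem _
  obtain ⟨s, t, hs, ht, hst, hes, het⟩ := exists_pair_orth h2 hQ he0 hn
  obtain ⟨-, g, hg, hgx⟩ := eich_mem_of_span Q he
    (mem_span_singular Q hs ht hst hes het (x := (Q u)⁻¹ • u)
      (by rw [QuadraticMap.polar_smul_right, polar_comm, hue, smul_zero]))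
  have hw : Q (u + e) = Q u := by rw [map_add', he, hue]; ring
  have : g = refl Q u * refl Q (u + e) := by
    refine isom_ext fun x => ?_
    have hwn : Q (u + e) ≠ 0 := by rw [hw]; exact hu
    rw [hgx, act_mul, act_refl hwn, act_refl hu, hw, eichMap, map_smul',
      QuadraticMap.polar_smul_right, QuadraticMap.polar_sub_right, QuadraticMap.polar_smul_right,
      QuadraticMap.polar_add_right, polar_self', hue, polar_comm ⇑Q x e, polar_comm ⇑Q x u,
      QuadraticMap.polar_add_left]
    simp only [smul_eq_mul]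
    match_scalars <;> field_simp <;> ring
  exact this ▸ hg

theorem refl_congr_same_value (h2 : (2 : F) ≠ 0) (hQ : Q.polarBilin.Nondegenerate)
    (hn : 5 ≤ Fintype.card ι) {u w : ι → F} (hu : Q u ≠ 0) (huw : Q w = Q u) :
    refl Q u * refl Q w ∈ Subgroup.closure (siegelSet Q) := by
  set E := Subgroup.closure (siegelSet Q) with hE
  have hu0 : u ≠ 0 := fun h => hu (by simp [h])
  have hw0 : Q w ≠ 0 := huw ▸ hu
  have base : ∀ a b, Q a = Q u → Q b = Q u → polar ⇑Q a b = 2 * Q u →
      refl Q a * refl Q b ∈ E := by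
    intro a b ha hb hab
    have h := refl_pair_degenerate h2 hQ hn (u := a) (e := b - a) (by rw [ha]; exact hu)
      (by rw [map_sub', ha, hb, polar_comm, hab]; ring)
      (by rw [QuadraticMap.polar_sub_right, hab, polar_self', ha, sub_self])
    rwa [add_sub_cancel] at h
  by_cases hlin : ∀ k : F, k • u ≠ w
  · set α := 2 * Q u - polar ⇑Q u w with hα
    by_cases hα0 : α = 0
    · exact base u w rfl huw (sub_eq_zero.mp hα0).symm
    obtain ⟨s, t, hs, ht, hst, hus, hut⟩ := exists_pair_orth h2 hQ hu0 hn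
    have hli : LinearIndependent F ![u, w] := (LinearIndependent.pair_iff' hu0).mpr hlin
    obtain ⟨y, hy⟩ := exists_polar_eq hQ hli ![0, 1]
    have huy : polar ⇑Q u y = 0 := hy 0
    have hwy : polar ⇑Q w y = 1 := hy 1
    have hmem := mem_span_singular Q hs ht hst hus hut huy
    obtain ⟨e₀, ⟨he₀, hue₀⟩, hwe₀⟩ :
        ∃ e₀, (Q e₀ = 0 ∧ polar ⇑Q u e₀ = 0) ∧ polar ⇑Q w e₀ ≠ 0 := by
      by_contra hcon
      push Not at hcon
      have hker : Submodule.span F {y | Q y = 0 ∧ polar ⇑Q u y = 0} ≤
          LinearMap.ker (Q.polarBilin w) :=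
        Submodule.span_le.mpr fun z hz => hcon z hz
      have : polar ⇑Q w y = 0 := hker hmem
      rw [hwy] at this; exact one_ne_zero this
    set e := (α / polar ⇑Q w e₀) • e₀ with he
    have hze : Q (u + e) = Q u := by
      rw [map_add', he, map_smul', he₀, QuadraticMap.polar_smul_right, hue₀]; simp
    have h1 : refl Q u * refl Q (u + e) ∈ E := base u (u + e) rfl hze (by
      rw [QuadraticMap.polar_add_right, polar_self', he, QuadraticMap.polar_smul_right, hue₀,
        smul_zero, add_zero])
    have h3 : refl Q (u + e) * refl Q w ∈ E := base (u + e) w hze huw (by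
      rw [QuadraticMap.polar_add_left, he, QuadraticMap.polar_smul_left, smul_eq_mul,
        polar_comm ⇑Q e₀ w, div_mul_cancel₀ _ hwe₀, hα]; ring)
    have h13 := mul_mem h1 h3
    rwa [mul_assoc, ← mul_assoc (refl Q (u + e)), refl_mul_self (hze ▸ hu), one_mul] at h13
  · push Not at hlin
    obtain ⟨k, hk⟩ := hlin
    have hk0 : k ≠ 0 := fun h => hw0 (by rw [← hk, h]; simp)
    rw [← hk, refl_smul hu hk0, refl_mul_self hu]
    exact one_mem _

theorem omega_eq_siegelGroup (h2 : (2 : F) ≠ 0) (hQ : Q.polarBilin.Nondegenerate)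
    (hn : 5 ≤ Fintype.card ι) : Cfsg.Omega F ⇑Q = Subgroup.closure (siegelSet Q) := by
  set E := Subgroup.closure (siegelSet Q) with hE
  have hle : E ≤ Cfsg.Omega F ⇑Q := by
    rw [hE, Subgroup.closure_le]
    rintro g ⟨u, v, c, hu, hv, huv, hg⟩
    exact (siegel_commutator h2 Q hQ u v hu hv huv c g hg).2
  refine le_antisymm ?_ hle
  haveI : E.Normal := siegelGroup_normal Q
  obtain ⟨ε, hε0, hε⟩ := exists_nonsquare_scalar h2
  obtain ⟨a, ha⟩ := exists_value h2 hQ (by omega) 1
  have ha0 : Q a ≠ 0 := by rw [ha]; exact one_ne_zero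
  obtain ⟨b, hb, hbp⟩ := exists_value_orth h2 hQ (p := ![a])
    ((LinearIndependent.of_subsingleton (R := F) (v := ![a]) (0 : Fin 1)
      (fun h : a = 0 => ha0 (by simp [h]))))
    (fun x hx h => by
      rw [Matrix.range_cons, Matrix.range_empty, Set.union_empty,
        Submodule.mem_span_singleton] at hx
      obtain ⟨k, rfl⟩ := hx
      have : polar ⇑Q a (k • a) = 0 := h 0
      rw [QuadraticMap.polar_smul_right, polar_self', smul_eq_mul] at this
      rw [(mul_eq_zero.mp this).resolve_right (mul_ne_zero h2 ha0), zero_smul])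
    (by omega) ε
  have hab : polar ⇑Q a b = 0 := hbp 0
  have hb0 : Q b ≠ 0 := by rw [hb]; exact hε0
  let π := QuotientGroup.mk' E
  have hcls : ∀ v, Q v ≠ 0 → π (refl Q v) = π (refl Q a) ∨ π (refl Q v) = π (refl Q b) := by
    intro v hv
    have key : ∀ w t, Q w ≠ 0 → t ≠ 0 → Q v = Q w * t ^ 2 → π (refl Q v) = π (refl Q w) := by
      intro w t hw ht hvw
      have hval : Q (t⁻¹ • v) = Q w := by rw [map_smul', hvw]; field_simp
      have h := refl_congr_same_value h2 hQ hn hw hval
      rw [refl_smul hv (inv_ne_zero ht)] at h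
      have h' : π (refl Q w) * π (refl Q v) = 1 := by
        rw [← map_mul]; exact (QuotientGroup.eq_one_iff _).mpr h
      calc π (refl Q v) = π (refl Q w) * π (refl Q w) * π (refl Q v) := by
            rw [← map_mul π (refl Q w), refl_mul_self hw, map_one, one_mul]
        _ = π (refl Q w) := by rw [mul_assoc, h', mul_one]
    rcases square_class hε hv with ⟨t, ht, hvt⟩ | ⟨t, ht, hvt⟩
    · exact Or.inl (key a t ha0 ht (by rw [ha]; exact hvt))
    · exact Or.inr (key b t hb0 ht (by rw [hb]; exact hvt))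
  have hcomm : π (refl Q a) * π (refl Q b) = π (refl Q b) * π (refl Q a) := by
    have h := conj_refl (refl Q a) hb0
    rw [refl_fix ha0 hab] at h
    rw [← map_mul, ← map_mul]
    congr 1
    calc refl Q a * refl Q b = refl Q a * refl Q b * (refl Q a)⁻¹ * refl Q a := by group
      _ = refl Q b * refl Q a := by rw [h]
  have hall : ∀ g k, π g * π k = π k * π g := by
    have hgen : ∀ v, Q v ≠ 0 → ∀ k, π (refl Q v) * π k = π k * π (refl Q v) := by
      intro v hv k
      refine reflGroup_induction (Q := Q) (p := fun k => π (refl Q v) * π k = π k * π (refl Q v))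
        ?_ ?_ (reflGroup_eq_top_of_two_ne_zero h2 hQ ▸ Subgroup.mem_top k)
      · simp
      · intro w g hw ih
        have hc : π (refl Q v) * π (refl Q w) = π (refl Q w) * π (refl Q v) := by
          rcases hcls v hv with h | h <;> rcases hcls w hw with h' | h' <;> rw [h, h']
          · exact hcomm
          · exact hcomm.symm
        rw [map_mul, ← mul_assoc, hc, mul_assoc, ih, mul_assoc]
    intro g k
    refine reflGroup_induction (Q := Q) (p := fun g => π g * π k = π k * π g)
      (by simp) ?_ (reflGroup_eq_top_of_two_ne_zero h2 hQ ▸ Subgroup.mem_top g)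
    intro w g hw ih
    rw [map_mul, mul_assoc, ih, ← mul_assoc, hgen w hw k, mul_assoc]
  rw [Cfsg.Omega, _root_.commutator_eq_closure, Subgroup.closure_le]
  rintro _ ⟨g, k, rfl⟩
  rw [SetLike.mem_coe, ← QuotientGroup.eq_one_iff]
  show π ⁅g, k⁆ = 1
  rw [map_commutatorElement, commutatorElement_eq_one_iff_mul_comm]
  exact hall g k

/-- Reflections whose vectors have values in `c (F^×)²`. -/
def classSet (Q : QuadraticForm F (ι → F)) (c : F) : Set ↥(Cfsg.isometryGroup F ⇑Q) :=
  {g | ∃ (v : ι → F) (t : F), t ≠ 0 ∧ Q v = c * t ^ 2 ∧ mat g = Cfsg.reflectionMatrix ⇑Q v}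

theorem exists_of_mem_classSet {c : F} (hc : c ≠ 0) {g : ↥(Cfsg.isometryGroup F ⇑Q)}
    (hg : g ∈ classSet Q c) : ∃ v t, Q v ≠ 0 ∧ t ≠ 0 ∧ Q v = c * t ^ 2 ∧ g = refl Q v := by
  obtain ⟨v, t, ht, hv, hm⟩ := hg
  have hv0 : Q v ≠ 0 := by rw [hv]; exact mul_ne_zero hc (pow_ne_zero _ ht)
  exact ⟨v, t, hv0, ht, hv, eq_refl_of_mat hv0 hm⟩

theorem classGroup_pair (h2 : (2 : F) ≠ 0) {c : F} (hc : c ≠ 0) {u w : ι → F} {d : F} (hd : d ≠ 0)
    (hu : Q u = d) (hw : Q w = d) (hf : polar ⇑Q u w ^ 2 ≠ 4 * d ^ 2) :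
    refl Q u * refl Q w ∈ Subgroup.closure (classSet Q c) := by
  set f := polar ⇑Q u w with hf'
  have h4 : (4 : F) ≠ 0 := by rw [show (4 : F) = 2 * 2 by norm_num]; exact mul_ne_zero h2 h2
  have hδ : d - f ^ 2 / (4 * d) ≠ 0 := fun h => hf (by field_simp at h; linear_combination -h)
  obtain ⟨s, β, hsβ⟩ := exists_sum_sq h2 hd hδ c
  set α := s - f / (2 * d) * β with hα
  have hval : d * α ^ 2 + f * α * β + d * β ^ 2 = c := by
    rw [hα, ← hsβ]; field_simp; ring
  set a := α • u + β • w with ha
  have hQa : Q a = c := by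
    rw [ha, map_add', map_smul', map_smul', QuadraticMap.polar_smul_left,
      QuadraticMap.polar_smul_right, hu, hw, ← hf', smul_eq_mul, smul_eq_mul]
    linear_combination hval
  set b := (-(β * d)) • u + (α * d + β * f) • w with hb
  have hQb : Q b = c * d ^ 2 := by
    rw [hb, map_add', map_smul', map_smul', QuadraticMap.polar_smul_left,
      QuadraticMap.polar_smul_right, hu, hw, ← hf', smul_eq_mul, smul_eq_mul]
    linear_combination d ^ 2 * hval
  have hQa0 : Q a ≠ 0 := hQa ▸ hc
  have hQb0 : Q b ≠ 0 := by rw [hQb]; exact mul_ne_zero hc (pow_ne_zero _ hd)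
  have key : refl Q u * refl Q w = refl Q a * refl Q b := by
    have hu0 : Q u ≠ 0 := by rw [hu]; exact hd
    have hw0 : Q w ≠ 0 := by rw [hw]; exact hd
    refine isom_ext fun x => ?_
    rw [act_mul, act_mul, act_refl hw0, act_refl hu0, act_refl hQb0, act_refl hQa0,
      hQa, hQb, hu, hw, ha, hb]
    simp only [QuadraticMap.polar_sub_right, QuadraticMap.polar_smul_right,
      QuadraticMap.polar_smul_left, QuadraticMap.polar_add_left, QuadraticMap.polar_add_right,
      polar_self', hu, hw, polar_comm ⇑Q w u, ← hf', smul_eq_mul]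
    match_scalars <;> field_simp <;> subst hval <;> ring
  rw [key]
  exact mul_mem (Subgroup.subset_closure ⟨a, 1, one_ne_zero, by rw [hQa]; ring, mat_refl hQa0⟩)
    (Subgroup.subset_closure ⟨b, d, hd, hQb, mat_refl hQb0⟩)

theorem classGroup_index_two (h2 : (2 : F) ≠ 0) (hQ : Q.polarBilin.Nondegenerate)
    (hn : 2 ≤ Fintype.card ι) (h43 : Fintype.card F = 3 → Fintype.card ι ≠ 3 ∧ Fintype.card ι ≠ 4)
    {c : F} (hc : c ≠ 0) : (Subgroup.closure (classSet Q c)).index = 2 := by
  classical
  obtain ⟨ε, hε0, hε⟩ := exists_nonsquare_scalar h2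
  set R := Subgroup.closure (classSet Q c) with hR
  set d := c * ε with hd'
  have hd : d ≠ 0 := mul_ne_zero hc hε0
  obtain ⟨b, hb⟩ := exists_value h2 hQ hn d
  have hb0 : Q b ≠ 0 := hb ▸ hd
  set χ := theta Q d with hχ
  have hker : R ≤ χ.ker := by
    rw [hR, Subgroup.closure_le]
    intro g hg
    obtain ⟨v, t, hv, ht, hvt, rfl⟩ := exists_of_mem_classSet hc hg
    rw [SetLike.mem_coe, MonoidHom.mem_ker, hχ]
    exact theta_refl_of_not_exists h2 hv hd fun ⟨s, hs⟩ => hε ⟨s * t, by
      rw [hvt, hd'] at hs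
      exact mul_left_cancel₀ hc (by linear_combination -hs)⟩
  have hχb : χ (refl Q b) = -1 := by
    rw [hχ]; exact theta_refl_of_exists h2 hb0 hd ⟨1, by rw [hb]; ring⟩
  have hdd : ∀ u w, Q u = d → Q w = d → refl Q u * refl Q w ∈ R := by
    intro u w hu hw
    by_cases hf : polar ⇑Q u w ^ 2 ≠ 4 * d ^ 2
    · exact classGroup_pair h2 hc hd hu hw hf
    push Not at hf
    obtain ⟨w', hw', hww', hf'⟩ :
        ∃ w', Q w' = d ∧ refl Q w' = refl Q w ∧ polar ⇑Q u w' = 2 * d := by
      rcases eq_or_eq_neg_of_sq_eq_sq _ _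
        (show polar ⇑Q u w ^ 2 = (2 * d) ^ 2 by rw [hf]; ring) with h | h
      · exact ⟨w, hw, rfl, h⟩
      · exact ⟨-w, by rw [QuadraticMap.map_neg, hw], refl_neg (hw ▸ hd),
          by rw [QuadraticMap.polar_neg_right, h, neg_neg]⟩
    rw [← hww']
    set e := w' - u with he
    have hwe : w' = u + e := by rw [he]; abel
    by_cases he0 : e = 0
    · rw [hwe, he0, add_zero, refl_mul_self (hu ▸ hd)]; exact one_mem _
    have hue : polar ⇑Q u e = 0 := by
      rw [he, QuadraticMap.polar_sub_right, hf', polar_self', hu, sub_self]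
    have heq : Q e = 0 := by rw [he, map_sub', hw', hu, polar_comm, hf']; ring
    have hu0 : u ≠ 0 := fun h => hd (by rw [← hu, h, QuadraticMap.map_zero])
    have hli : LinearIndependent F ![u, e] := by
      rw [LinearIndependent.pair_iff' hu0]
      intro k hk
      rw [← hk, QuadraticMap.polar_smul_right, polar_self', hu, smul_eq_mul] at hue
      exact he0 (by rw [← hk, (mul_eq_zero.mp hue).resolve_right (mul_ne_zero h2 hd), zero_smul])
    obtain ⟨z, hz, huz, hwz⟩ : ∃ z, Q z = d ∧ polar ⇑Q u z ^ 2 ≠ 4 * d ^ 2 ∧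
        polar ⇑Q z w' ^ 2 ≠ 4 * d ^ 2 := by
      have h4 : (4 : F) * d ^ 2 ≠ 0 := by
        rw [show (4 : F) = 2 * 2 by norm_num]
        exact mul_ne_zero (mul_ne_zero h2 h2) (pow_ne_zero _ hd)
      by_cases hκ : ∃ κ : F, κ ≠ 0 ∧ κ ^ 2 ≠ 4 * d ^ 2
      · obtain ⟨κ, hκ0, hκ⟩ := hκ
        obtain ⟨y, hy⟩ := exists_polar_eq hQ hli ![0, κ]
        have huy : polar ⇑Q u y = 0 := hy 0
        have hey : polar ⇑Q e y = κ := hy 1
        refine ⟨y + ((d - Q y) / κ) • e, ?_, ?_, ?_⟩
        · rw [map_add', map_smul', heq, QuadraticMap.polar_smul_right, polar_comm, hey, smul_eq_mul]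
          field_simp; ring
        · rw [QuadraticMap.polar_add_right, huy, QuadraticMap.polar_smul_right, hue]
          simpa using h4.symm
        · rw [hwe, QuadraticMap.polar_add_left, QuadraticMap.polar_smul_left,
            QuadraticMap.polar_add_right, QuadraticMap.polar_add_right, polar_comm ⇑Q y u, huy,
            polar_comm ⇑Q y e, hey, polar_comm ⇑Q e u, hue, polar_self', heq]
          simpa using hκ
      · push Not at hκ
        have hcard : Fintype.card F = 3 := by
          have h3 : (Finset.univ : Finset F) = {0, 2 * d, -(2 * d)} := by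
            ext x
            simp only [Finset.mem_univ, Finset.mem_insert, Finset.mem_singleton, true_iff]
            by_cases hx : x = 0
            · exact Or.inl hx
            · exact Or.inr (eq_or_eq_neg_of_sq_eq_sq x (2 * d) (by rw [hκ x hx]; ring))
          have hne2 : (2 * d) ≠ 0 := mul_ne_zero h2 hd
          rw [← Finset.card_univ, h3, Finset.card_eq_three]
          exact ⟨_, _, _, hne2.symm, (neg_ne_zero.mpr hne2).symm, fun h =>
            mul_ne_zero h2 hne2 (by linear_combination h), rfl⟩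
        obtain ⟨hn3, hn4⟩ := h43 hcard
        obtain ⟨y, hy⟩ := exists_polar_eq hQ hli ![0, 1]
        have huy : polar ⇑Q u y = 0 := hy 0
        have hey : polar ⇑Q e y = 1 := hy 1
        have hli3 : LinearIndependent F ![y, u, e] := li_cons hli fun hm => by
          rw [Submodule.mem_span_range_iff_exists_fun] at hm
          obtain ⟨co, hco⟩ := hm
          rw [Fin.sum_univ_two] at hco
          simp only [Matrix.cons_val_zero, Matrix.cons_val_one] at hco
          rw [← hco, QuadraticMap.polar_add_right, QuadraticMap.polar_smul_right,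
            QuadraticMap.polar_smul_right, polar_comm, hue, polar_self', heq] at hey
          simp at hey
        have hrad : ∀ x ∈ Submodule.span F (Set.range ![y, u, e]),
            (∀ i, polar ⇑Q (![y, u, e] i) x = 0) → x = 0 := by
          intro x hx h
          rw [Submodule.mem_span_range_iff_exists_fun] at hx
          obtain ⟨co, rfl⟩ := hx
          rw [Fin.sum_univ_three] at h ⊢
          have h0 := h 0; have h1 := h 1; have h2' := h 2
          simp only [Matrix.cons_val_zero, Matrix.cons_val_one, Matrix.cons_val,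
            QuadraticMap.polar_add_right, QuadraticMap.polar_smul_right, polar_self',
            polar_comm ⇑Q y u, polar_comm ⇑Q y e, polar_comm ⇑Q e u, huy, hey, hue, hu, heq,
            smul_eq_mul, mul_zero, mul_one, add_zero, zero_add] at h0 h1 h2'
          have e1 : co 1 = 0 := (mul_eq_zero.mp h1).resolve_right (mul_ne_zero h2 hd)
          have e2 : co 2 = 0 := by rw [h2'] at h0; linear_combination h0
          simp [h2', e1, e2]
        have hcard5 : 3 + 2 ≤ Fintype.card ι := by
          have := hli3.fintype_card_le_finrank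
          simp at this
          omega
        obtain ⟨z, hz, hzp⟩ := exists_value_orth h2 hQ hli3 hrad hcard5 d
        have huz : polar ⇑Q u z = 0 := hzp 1
        have hez : polar ⇑Q e z = 0 := hzp 2
        refine ⟨z, hz, by rw [huz]; simpa using h4.symm, ?_⟩
        rw [hwe, QuadraticMap.polar_add_right, polar_comm ⇑Q z u, huz, polar_comm ⇑Q z e, hez]
        simpa using h4.symm
    have h1 := classGroup_pair h2 hc hd hu hz huz
    have h2' := classGroup_pair h2 hc hd hz hw' hwz
    have h12 := mul_mem h1 h2'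
    rwa [mul_assoc, ← mul_assoc (refl Q z), refl_mul_self (hz ▸ hd), one_mul] at h12
  have hconj : ∀ g, ∀ x ∈ R, g * x * g⁻¹ ∈ R := by
    intro g x hx
    have hle : R.map (MulAut.conj g).toMonoidHom ≤ R := by
      rw [hR, MonoidHom.map_closure, Subgroup.closure_le]
      rintro _ ⟨y, hy, rfl⟩
      obtain ⟨v, t, hv, ht, hvt, rfl⟩ := exists_of_mem_classSet hc hy
      apply Subgroup.subset_closure
      refine ⟨act g v, t, ht, by rw [act_Q, hvt], ?_⟩
      show mat (g * refl Q v * g⁻¹) = _
      rw [conj_refl g hv, mat_refl (by rwa [act_Q])]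
    exact hle ⟨x, hx, rfl⟩
  have hbmul : ∀ g, refl Q b * g = refl Q b * g * (refl Q b)⁻¹ * refl Q b := fun g => by group
  have hall : ∀ g, g ∈ R ∨ refl Q b * g ∈ R := by
    intro g
    refine reflGroup_induction (Q := Q) (p := fun g => g ∈ R ∨ refl Q b * g ∈ R)
      (Or.inl (one_mem _)) ?_ (reflGroup_eq_top_of_two_ne_zero h2 hQ ▸ Subgroup.mem_top g)
    intro v g hv ih
    rcases square_class hε (mul_ne_zero hv (inv_ne_zero hc)) with ⟨t, ht, hvt⟩ | ⟨t, ht, hvt⟩
    · have hvR : refl Q v ∈ R := Subgroup.subset_closure ⟨v, t, ht, by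
        field_simp at hvt; linear_combination hvt, mat_refl hv⟩
      rcases ih with h | h
      · exact Or.inl (mul_mem hvR h)
      · refine Or.inr ?_
        have he : refl Q b * (refl Q v * g)
            = refl Q b * refl Q v * (refl Q b)⁻¹ * (refl Q b * g) := by group
        rw [he]
        exact mul_mem (hconj _ _ hvR) h
    · have hw : Q (t⁻¹ • v) = d := by
        rw [map_smul', hd']; field_simp at hvt ⊢; linear_combination hvt
      have hbv := hdd b _ hb hw
      rw [refl_smul hv (inv_ne_zero ht)] at hbv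
      rcases ih with h | h
      · refine Or.inr ?_
        rw [← mul_assoc]; exact mul_mem hbv h
      · refine Or.inl ?_
        have he : refl Q v * g = (refl Q b * refl Q v)⁻¹ * (refl Q b * g) := by
          rw [_root_.mul_inv_rev, refl_inv hv, refl_inv hb0, mul_assoc, ← mul_assoc (refl Q b),
            refl_mul_self hb0, one_mul]
        rw [he]
        exact mul_mem (inv_mem hbv) h
  have heq : R = χ.ker := by
    refine le_antisymm hker fun g hg => (hall g).resolve_right fun h => ?_
    have := MonoidHom.mem_ker.mp (hker h)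
    rw [map_mul, MonoidHom.mem_ker.mp hg, mul_one, hχb] at this
    exact absurd this (by decide)
  have hs : Function.Surjective χ := by
    intro x
    rcases Int.units_eq_one_or x with rfl | rfl
    · exact ⟨1, map_one _⟩
    · exact ⟨_, hχb⟩
  rw [heq, Subgroup.index_ker, MonoidHom.range_eq_top.mpr hs]
  simp [Nat.card_eq_fintype_card]

end Cfsg.Agent.Reflections
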