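import Cfsg.Agent.Lib.Reflections.Basic

/-!
Characteristic two: generation of the isometry group by orthogonal transvections (any field, except
`O_4` over the field of two elements), the Dickson invariant, index of the commutator subgroup.
-/

set_option autoImplicit false
set_option linter.unusedSectionVars false

namespace Cfsg.Agent.Reflections

open Matrix QuadraticMap
open scoped Matrix

variable {ι : Type} [Fintype ι] [DecidableEq ι] {F : Type*} [Field F]
variable {Q : QuadraticForm F (ι → F)}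

/-- The linear map of an isometry. -/
def lin (g : ↥(Cfsg.isometryGroup F ⇑Q)) : (ι → F) →ₗ[F] (ι → F) := (mat g).mulVecLin

@[simp] theorem lin_apply (g : ↥(Cfsg.isometryGroup F ⇑Q)) (x : ι → F) : lin g x = act g x := rfl

/-- The fixed space. -/
def fixSp (g : ↥(Cfsg.isometryGroup F ⇑Q)) : Submodule F (ι → F) :=
  LinearMap.ker (lin g - LinearMap.id)

/-- The residual space `range (g - 1)`. -/
def resSp (g : ↥(Cfsg.isometryGroup F ⇑Q)) : Submodule F (ι → F) :=
  LinearMap.range (lin g - LinearMap.id)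

theorem mem_fixSp {g : ↥(Cfsg.isometryGroup F ⇑Q)} {x : ι → F} :
    x ∈ fixSp g ↔ act g x = x := by
  simp [fixSp, LinearMap.mem_ker, sub_eq_zero]

theorem mem_resSp {g : ↥(Cfsg.isometryGroup F ⇑Q)} {x : ι → F} :
    x ∈ resSp g ↔ ∃ u, act g u - u = x := by
  simp [resSp, LinearMap.mem_range]

theorem finrank_res_add_fix (g : ↥(Cfsg.isometryGroup F ⇑Q)) :
    Module.finrank F (resSp g) + Module.finrank F (fixSp g) = Fintype.card ι := by
  rw [← Module.finrank_fintype_fun_eq_card F]
  exact LinearMap.finrank_range_add_finrank_ker _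

theorem polar_res_fix {g : ↥(Cfsg.isometryGroup F ⇑Q)} {v x : ι → F} (hv : v ∈ resSp g)
    (hx : x ∈ fixSp g) : polar ⇑Q v x = 0 := by
  obtain ⟨u, rfl⟩ := mem_resSp.mp hv
  rw [QuadraticMap.polar_sub_left]
  conv_lhs => arg 1; rw [← mem_fixSp.mp hx, act_polar]
  rw [sub_self]

theorem mem_fix_of_orth (hQ : Q.polarBilin.Nondegenerate) {g : ↥(Cfsg.isometryGroup F ⇑Q)}
    {x : ι → F} (h : ∀ v ∈ resSp g, polar ⇑Q v x = 0) : x ∈ fixSp g := by
  rw [mem_fixSp]
  have h0 : act g⁻¹ x - x = 0 := by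
    refine eq_zero_of_polar_eq_zero hQ fun u => ?_
    have := h _ (mem_resSp.mpr ⟨u, rfl⟩)
    rw [QuadraticMap.polar_sub_left, sub_eq_zero] at this
    rw [QuadraticMap.polar_sub_left, ← act_polar g (act g⁻¹ x) u, act_act_inv, polar_comm, this,
      polar_comm, sub_self]
  rw [sub_eq_zero] at h0
  conv_lhs => rw [← h0, act_act_inv]

theorem mem_res_of_orth (hQ : Q.polarBilin.Nondegenerate) {g : ↥(Cfsg.isometryGroup F ⇑Q)}
    {v : ι → F} (h : ∀ x ∈ fixSp g, polar ⇑Q v x = 0) : v ∈ resSp g := by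
  have hrefl : Q.polarBilin.IsRefl := fun x y hxy => by
    show polar ⇑Q y x = 0
    rw [polar_comm]; exact hxy
  have hle : resSp g ≤ LinearMap.BilinForm.orthogonal Q.polarBilin (fixSp g) := by
    intro w hw x hx
    show polar ⇑Q x w = 0
    rw [polar_comm]; exact polar_res_fix hw hx
  have heq : resSp g = LinearMap.BilinForm.orthogonal Q.polarBilin (fixSp g) := by
    refine Submodule.eq_of_le_of_finrank_eq hle ?_
    rw [LinearMap.BilinForm.finrank_orthogonal hQ (fixSp g)]
    rw [Module.finrank_fintype_fun_eq_card]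
    have := finrank_res_add_fix g
    omega
  rw [heq]
  intro x hx
  show polar ⇑Q x v = 0
  rw [polar_comm]; exact h x hx

variable [CharP F 2]

theorem two_eq_zero' : (2 : F) = 0 := CharTwo.two_eq_zero

theorem neg_vec (x : ι → F) : -x = x := by funext i; exact CharTwo.neg_eq (x i)

theorem sub_vec (x y : ι → F) : x - y = x + y := by rw [sub_eq_add_neg, neg_vec]

theorem polar_self_two (Q : QuadraticForm F (ι → F)) (x : ι → F) : polar ⇑Q x x = 0 := by
  rw [polar_self', two_eq_zero', zero_mul]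

theorem fix_refl_mul {v u : ι → F} (hv : Q v ≠ 0) {g : ↥(Cfsg.isometryGroup F ⇑Q)}
    (hu : act g u - u = v) :
    fixSp (refl Q v * g) = fixSp g ⊔ Submodule.span F {u} := by
  have hfu : polar ⇑Q u v = Q v := by
    have h := act_Q g u
    rw [sub_eq_iff_eq_add.mp hu, map_add', polar_comm] at h
    have h2 : Q v + polar ⇑Q u v = 0 := by linear_combination h
    exact (CharTwo.add_eq_zero.mp h2).symm
  apply le_antisymm
  · intro x hx
    rw [mem_fixSp, act_mul, act_refl hv, sub_eq_iff_eq_add] at hx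
    set k := (Q v)⁻¹ * polar ⇑Q v (act g x)
    have hy : x - k • u ∈ fixSp g := by
      rw [mem_fixSp, act_sub, act_smul, sub_eq_iff_eq_add.mp hu, hx]
      module
    have : x = (x - k • u) + k • u := by abel
    rw [this]
    exact Submodule.add_mem_sup hy (Submodule.smul_mem _ _ (Submodule.mem_span_singleton_self u))
  · refine sup_le (fun x hx => ?_) ?_
    · rw [mem_fixSp, act_mul, mem_fixSp.mp hx, refl_fix hv]
      exact polar_res_fix (mem_resSp.mpr ⟨u, hu⟩) hx
    · rw [Submodule.span_singleton_le_iff_mem, mem_fixSp, act_mul, sub_eq_iff_eq_add.mp hu,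
        act_refl hv, QuadraticMap.polar_add_right, polar_self_two, polar_comm ⇑Q v u, hfu, zero_add,
        inv_mul_cancel₀ hv, one_smul]
      abel

theorem res_drop {v : ι → F} (hv : Q v ≠ 0) {g : ↥(Cfsg.isometryGroup F ⇑Q)}
    (hmem : v ∈ resSp g) :
    Module.finrank F (resSp (refl Q v * g)) + 1 = Module.finrank F (resSp g) := by
  obtain ⟨u, hu⟩ := mem_resSp.mp hmem
  have hv0 : v ≠ 0 := fun h => hv (by simp [h])
  have hu0 : u ≠ 0 := fun h => hv0 (by rw [← hu, h, act_zero, sub_self])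
  have hun : u ∉ fixSp g := fun h => hv0 (by rw [← hu, mem_fixSp.mp h, sub_self])
  have hdis : fixSp g ⊓ Submodule.span F {u} = ⊥ :=
    disjoint_iff.mp (Submodule.disjoint_span_singleton_of_notMem hun)
  have h1 := Submodule.finrank_sup_add_finrank_inf_eq (fixSp g) (Submodule.span F {u})
  rw [hdis, finrank_bot, finrank_span_singleton hu0, ← fix_refl_mul hv hu] at h1
  have h2 := finrank_res_add_fix g
  have h3 := finrank_res_add_fix (refl Q v * g)
  omega

theorem fix_refl_mul' {v : ι → F} (hv : Q v ≠ 0) {g : ↥(Cfsg.isometryGroup F ⇑Q)}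
    (hmem : v ∉ resSp g) :
    fixSp (refl Q v * g) = fixSp g ⊓ LinearMap.ker (Q.polarBilin v) := by
  apply le_antisymm
  · intro x hx
    rw [mem_fixSp, act_mul, act_refl hv, sub_eq_iff_eq_add] at hx
    set k := (Q v)⁻¹ * polar ⇑Q v (act g x) with hk
    have hk0 : k = 0 := by
      by_contra h
      apply hmem
      refine mem_resSp.mpr ⟨k⁻¹ • x, ?_⟩
      rw [act_smul, hx, smul_add, smul_smul, inv_mul_cancel₀ h, one_smul]
      abel
    rw [hk0, zero_smul, add_zero] at hx
    refine Submodule.mem_inf.mpr ⟨mem_fixSp.mpr hx, ?_⟩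
    rw [hk, hx] at hk0
    exact (mul_eq_zero.mp hk0).resolve_left (inv_ne_zero hv)
  · intro x hx
    obtain ⟨h1, h2⟩ := Submodule.mem_inf.mp hx
    rw [mem_fixSp, act_mul, mem_fixSp.mp h1, refl_fix hv h2]

theorem res_rise (hQ : Q.polarBilin.Nondegenerate) {v : ι → F} (hv : Q v ≠ 0)
    {g : ↥(Cfsg.isometryGroup F ⇑Q)} (hmem : v ∉ resSp g) :
    Module.finrank F (resSp (refl Q v * g)) = Module.finrank F (resSp g) + 1 := by
  obtain ⟨x₀, hx₀, hx₀v⟩ : ∃ x ∈ fixSp g, polar ⇑Q v x ≠ 0 := by
    by_contra h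
    push Not at h
    exact hmem (mem_res_of_orth hQ h)
  have hsup : fixSp g = fixSp (refl Q v * g) ⊔ Submodule.span F {x₀} := by
    rw [fix_refl_mul' hv hmem]
    apply le_antisymm
    · intro x hx
      set k := polar ⇑Q v x / polar ⇑Q v x₀
      have : x = (x - k • x₀) + k • x₀ := by abel
      rw [this]
      refine Submodule.add_mem_sup (Submodule.mem_inf.mpr ⟨sub_mem hx (Submodule.smul_mem _ _ hx₀), ?_⟩)
        (Submodule.smul_mem _ _ (Submodule.mem_span_singleton_self x₀))
      show polar ⇑Q v (x - k • x₀) = 0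
      rw [QuadraticMap.polar_sub_right, QuadraticMap.polar_smul_right, smul_eq_mul,
        div_mul_cancel₀ _ hx₀v, sub_self]
    · exact sup_le inf_le_left (Submodule.span_singleton_le_iff_mem _ _ |>.mpr hx₀)
  have hx0 : x₀ ≠ 0 := fun h => hx₀v (by rw [h]; simp [QuadraticMap.polar_zero_right])
  have hnot : x₀ ∉ fixSp (refl Q v * g) := by
    rw [fix_refl_mul' hv hmem, Submodule.mem_inf]; exact fun h => hx₀v h.2
  have hdis : fixSp (refl Q v * g) ⊓ Submodule.span F {x₀} = ⊥ :=
    disjoint_iff.mp (Submodule.disjoint_span_singleton_of_notMem hnot)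
  have h1 := Submodule.finrank_sup_add_finrank_inf_eq (fixSp (refl Q v * g)) (Submodule.span F {x₀})
  rw [← hsup, hdis, finrank_bot, finrank_span_singleton hx0] at h1
  have h2 := finrank_res_add_fix g
  have h3 := finrank_res_add_fix (refl Q v * g)
  omega

/-- A vector with given zero and non-zero polar values. -/
theorem exists_avoid (hQ : Q.polarBilin.Nondegenerate) {a b c : ι → F}
    (hab : LinearIndependent F ![a, b]) (hac : LinearIndependent F ![a, c]) :
    ∃ y, polar ⇑Q a y = 0 ∧ polar ⇑Q b y ≠ 0 ∧ polar ⇑Q c y ≠ 0 := by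
  obtain ⟨y₁, hy₁⟩ := exists_polar_eq hQ hab ![0, 1]
  obtain ⟨y₂, hy₂⟩ := exists_polar_eq hQ hac ![0, 1]
  have a1 : polar ⇑Q a y₁ = 0 := hy₁ 0
  have b1 : polar ⇑Q b y₁ = 1 := hy₁ 1
  have a2 : polar ⇑Q a y₂ = 0 := hy₂ 0
  have c2 : polar ⇑Q c y₂ = 1 := hy₂ 1
  by_cases c1 : polar ⇑Q c y₁ = 0
  · by_cases b2 : polar ⇑Q b y₂ = 0
    · refine ⟨y₁ + y₂, ?_, ?_, ?_⟩ <;> simp [QuadraticMap.polar_add_right, a1, b1, a2, c2, c1, b2]
    · exact ⟨y₂, a2, b2, by rw [c2]; exact one_ne_zero⟩
  · exact ⟨y₁, a1, by rw [b1]; exact one_ne_zero, c1⟩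

theorem pair_li {a b : ι → F} (ha : a ≠ 0) (hb : b ∉ Submodule.span F {a}) :
    LinearIndependent F ![a, b] := by
  rw [LinearIndependent.pair_iff' ha]
  exact fun k hk => hb (Submodule.mem_span_singleton.mpr ⟨k, hk⟩)

theorem exists_aux_vector (hQ : Q.polarBilin.Nondegenerate)
    (hexc : (∃ c : F, c ≠ 0 ∧ c ≠ 1) ∨ Fintype.card ι ≠ 4)
    {g : ↥(Cfsg.isometryGroup F ⇑Q)} (hW : ∀ w ∈ resSp g, Q w = 0) (hne : g ≠ 1) :
    ∃ v w, Q v ≠ 0 ∧ w ∈ resSp g ∧ w ≠ 0 ∧ polar ⇑Q v w = 0 ∧ w ≠ act g v - v := by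
  have hres0 : ∃ w ∈ resSp g, w ≠ 0 := by
    by_contra h
    push Not at h
    refine hne (isom_ext fun x => ?_)
    rw [act_one]
    exact sub_eq_zero.mp (h _ (mem_resSp.mpr ⟨x, rfl⟩))
  by_cases hf : ∃ v ∈ fixSp g, Q v ≠ 0
  · obtain ⟨v, hv, hvQ⟩ := hf
    obtain ⟨w, hw, hw0⟩ := hres0
    refine ⟨v, w, hvQ, hw, hw0, ?_, ?_⟩
    · rw [polar_comm]; exact polar_res_fix hw hv
    · rw [mem_fixSp.mp hv, sub_self]; exact hw0
  push Not at hf
  obtain ⟨v, hvQ⟩ : ∃ v, Q v ≠ 0 := by
    by_contra h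
    push Not at h
    obtain ⟨w, -, hw0⟩ := hres0
    exact hw0 (eq_zero_of_polar_eq_zero hQ fun x => by simp [polar, h])
  set z := act g v - v with hz
  have hzW : z ∈ resSp g := mem_resSp.mpr ⟨v, rfl⟩
  have hvfix : v ∉ fixSp g := fun h => hvQ (hf v h)
  have hz0 : z ≠ 0 := fun h => hvfix (mem_fixSp.mpr (sub_eq_zero.mp h))
  have hvz : polar ⇑Q v z = 0 := by
    have h := act_Q g v
    rw [show act g v = v + z by rw [hz]; abel, map_add', hW z hzW] at h
    linear_combination h
  by_cases hc : ∃ c : F, c ≠ 0 ∧ c ≠ 1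
  · obtain ⟨c, hc0, hc1⟩ := hc
    refine ⟨v, c • z, hvQ, Submodule.smul_mem _ _ hzW, smul_ne_zero hc0 hz0, ?_, ?_⟩
    · rw [QuadraticMap.polar_smul_right, hvz, smul_zero]
    · exact fun h => hc1 (smul_left_injective F hz0 (by simpa using h))
  have hn4 : Fintype.card ι ≠ 4 := hexc.resolve_left hc
  suffices h : ∃ w ∈ resSp g, polar ⇑Q v w = 0 ∧ w ∉ Submodule.span F {z} by
    obtain ⟨w, hw, hvw, hwz⟩ := h
    exact ⟨v, w, hvQ, hw, fun h => hwz (h ▸ zero_mem _), hvw,
      fun h => hwz (h ▸ Submodule.mem_span_singleton_self z)⟩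
  by_contra h
  push Not at h
  have hle : fixSp g ≤ resSp g := fun x hx => mem_res_of_orth hQ fun y hy => by
    simp [polar, hf x hx, hf y hy, hf _ (add_mem hx hy)]
  have hge : resSp g ≤ fixSp g := fun x hx => mem_fix_of_orth hQ fun y hy => by
    simp [polar, hW x hx, hW y hy, hW _ (add_mem hy hx)]
  have heq : resSp g = fixSp g := le_antisymm hge hle
  obtain ⟨w₁, hw₁, hvw₁⟩ : ∃ w ∈ resSp g, polar ⇑Q v w ≠ 0 := by
    by_contra hall
    push Not at hall
    exact hvfix (mem_fix_of_orth hQ fun w hw => by rw [polar_comm]; exact hall w hw)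
  have hspan : resSp g ≤ Submodule.span F {z} ⊔ Submodule.span F {w₁} := by
    intro x hx
    set k := polar ⇑Q v x / polar ⇑Q v w₁
    have : x = (x - k • w₁) + k • w₁ := by abel
    rw [this]
    refine Submodule.add_mem_sup (h _ (sub_mem hx (Submodule.smul_mem _ _ hw₁)) ?_)
      (Submodule.smul_mem _ _ (Submodule.mem_span_singleton_self w₁))
    rw [QuadraticMap.polar_sub_right, QuadraticMap.polar_smul_right, smul_eq_mul,
      div_mul_cancel₀ _ hvw₁, sub_self]
  have hk : Module.finrank F (resSp g) ≤ 2 := by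
    refine (Submodule.finrank_mono hspan).trans ?_
    refine (Submodule.finrank_add_le_finrank_add_finrank _ _).trans ?_
    rw [finrank_span_singleton hz0,
      finrank_span_singleton (fun h0 => hvw₁ (by rw [h0]; simp [QuadraticMap.polar_zero_right]))]
  have h2 : 2 ≤ Module.finrank F (resSp g) := by
    have hli : LinearIndependent F ![z, w₁] := pair_li hz0 fun hm => by
      obtain ⟨k, rfl⟩ := Submodule.mem_span_singleton.mp hm
      exact hvw₁ (by rw [QuadraticMap.polar_smul_right, hvz, smul_zero])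
    have hsub : Submodule.span F (Set.range ![z, w₁]) ≤ resSp g := by
      rw [Submodule.span_le]
      rintro _ ⟨i, rfl⟩
      fin_cases i <;> simpa
    have := Submodule.finrank_mono hsub
    rw [finrank_span_eq_card hli] at this
    simpa using this
  have := finrank_res_add_fix g
  rw [← heq] at this
  omega

/-- Generation by orthogonal transvections. -/
theorem reflGroup_eq_top_of_char_two (hQ : Q.polarBilin.Nondegenerate)
    (hexc : (∃ c : F, c ≠ 0 ∧ c ≠ 1) ∨ Fintype.card ι ≠ 4) : reflGroup Q = ⊤ := by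
  suffices h : ∀ k, ∀ g : ↥(Cfsg.isometryGroup F ⇑Q),
      Module.finrank F (resSp g) = k → g ∈ reflGroup Q by
    exact (Subgroup.eq_top_iff' _).mpr fun g => h _ g rfl
  intro k
  induction k using Nat.strong_induction_on with
  | _ k ih =>
    intro g hg
    have hdrop : ∀ g', Module.finrank F (resSp g') = k → (∃ v ∈ resSp g', Q v ≠ 0) →
        g' ∈ reflGroup Q := by
      intro g' hg' ⟨v, hv, hvQ⟩
      have hlt : Module.finrank F (resSp (refl Q v * g')) < k := by
        have := res_drop hvQ hv; omega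
      have := ih _ hlt (refl Q v * g') rfl
      exact (Subgroup.mul_mem_cancel_left _ (refl_mem hvQ)).mp this
    by_cases ha : ∃ v ∈ resSp g, Q v ≠ 0
    · exact hdrop g hg ha
    push Not at ha
    by_cases hone : g = 1
    · rw [hone]; exact one_mem _
    obtain ⟨v, w, hvQ, hw, hw0, hvw, hwne⟩ := exists_aux_vector hQ hexc ha hone
    have hvW : v ∉ resSp g := fun h => hvQ (ha v h)
    have hrise := res_rise hQ hvQ hvW
    set v' := v + w with hv'
    have hv'Q : Q v' = Q v := by rw [hv', map_add', ha w hw, hvw]; ring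
    have hv'0 : Q v' ≠ 0 := hv'Q ▸ hvQ
    have hmem' : v' ∈ resSp (refl Q v * g) := by
      refine mem_res_of_orth hQ fun x hx => ?_
      rw [fix_refl_mul' hvQ hvW, Submodule.mem_inf] at hx
      rw [hv', QuadraticMap.polar_add_left, polar_res_fix hw hx.1, add_zero]
      exact hx.2
    have hdr := res_drop hv'0 hmem'
    set g' := refl Q v' * (refl Q v * g) with hg'
    suffices hg'mem : g' ∈ reflGroup Q by
      rw [hg'] at hg'mem
      exact (Subgroup.mul_mem_cancel_left _ (refl_mem hvQ)).mp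
        ((Subgroup.mul_mem_cancel_left _ (refl_mem hv'0)).mp hg'mem)
    refine hdrop g' (by omega) ?_
    set z := act g v - v with hz
    have hzW : z ∈ resSp g := mem_resSp.mpr ⟨v, rfl⟩
    have hfixle : ∀ x ∈ resSp g, x ∈ fixSp g := fun x hx => mem_fix_of_orth hQ fun y hy => by
      simp [polar, ha x hx, ha y hy, ha _ (add_mem hy hx)]
    have hvz0 : v + z ≠ 0 := fun h => hvW (by
      rw [eq_neg_of_add_eq_zero_left h]; exact neg_mem hzW)
    have hliw : LinearIndependent F ![v + z, w] := pair_li hvz0 fun hm => by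
      obtain ⟨c, hc⟩ := Submodule.mem_span_singleton.mp hm
      rcases eq_or_ne c 0 with rfl | hc0
      · exact hw0 (by rw [← hc, zero_smul])
      · refine hvW ?_
        have hd : v + z ∈ resSp g := by
          rw [← inv_smul_smul₀ hc0 (v + z), hc]; exact Submodule.smul_mem _ _ hw
        simpa using sub_mem hd hzW
    have hliw' : LinearIndependent F ![v + z, w + v] := pair_li hvz0 fun hm => by
      obtain ⟨c, hc⟩ := Submodule.mem_span_singleton.mp hm
      rcases eq_or_ne c 1 with rfl | hc1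
      · refine hwne ?_
        rw [one_smul, add_comm w v] at hc
        exact (add_left_cancel hc).symm
      · refine hvW ?_
        have hd : (c - 1) • v = w - c • z := by
          rw [smul_add] at hc
          rw [sub_smul, one_smul]; exact sub_eq_sub_iff_add_eq_add.mpr hc
        have : v = (c - 1)⁻¹ • (w - c • z) := by
          rw [← hd, inv_smul_smul₀ (sub_ne_zero.mpr hc1)]
        rw [this]
        exact Submodule.smul_mem _ _ (sub_mem hw (Submodule.smul_mem _ _ hzW))
    obtain ⟨y, hy1, hy2, hy3⟩ := exists_avoid hQ hliw hliw'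
    have hgz : act g z = z := mem_fixSp.mp (hfixle z hzW)
    have hgv : act g (v + z) = v := by
      rw [act_add, hgz, show act g v = v + z by rw [hz]; abel, add_assoc]
      conv_lhs => arg 2; rw [← sub_vec, sub_self]
      rw [add_zero]
    have hvgy : polar ⇑Q v (act g y) = 0 := by
      conv_lhs => arg 2; rw [← hgv]
      rw [act_polar, hy1]
    set d := act g y - y with hd
    have hdW : d ∈ resSp g := mem_resSp.mpr ⟨y, rfl⟩
    have hwd : polar ⇑Q w d = 0 := by
      simp [polar, ha w hw, ha d hdW, ha _ (add_mem hw hdW)]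
    refine ⟨_, mem_resSp.mpr ⟨y, rfl⟩, ?_⟩
    set s := polar ⇑Q w y with hs
    have hgy : act g y = y + d := by rw [hd]; abel
    have hval : act g' y - y = d + ((Q v)⁻¹ * s) • v' := by
      rw [hg', act_mul, act_mul, refl_fix hvQ hvgy, act_refl hv'0, hv'Q, hv',
        QuadraticMap.polar_add_left, hvgy, zero_add, hgy, QuadraticMap.polar_add_right, hwd,
        add_zero, ← hs, sub_vec (y + d)]
      abel
    rw [hval, map_add', ha d hdW, map_smul', hv'Q, QuadraticMap.polar_smul_right, smul_eq_mul,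
      hv', QuadraticMap.polar_add_right, polar_comm ⇑Q d w, hwd, add_zero, polar_comm ⇑Q d v]
    have hvd : polar ⇑Q v d = polar ⇑Q v y := by
      rw [hgy, QuadraticMap.polar_add_right] at hvgy
      exact (CharTwo.add_eq_zero.mp hvgy).symm
    have hy3' : s + polar ⇑Q v y ≠ 0 := by
      rwa [QuadraticMap.polar_add_left, ← hs] at hy3
    rw [hvd]
    have : 0 + (Q v)⁻¹ * s * ((Q v)⁻¹ * s) * Q v + (Q v)⁻¹ * s * polar ⇑Q v y
        = (Q v)⁻¹ * s * (s + polar ⇑Q v y) := by field_simp; ring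
    rw [this]
    exact mul_ne_zero (mul_ne_zero (inv_ne_zero hvQ) hy2) hy3'

theorem parity_refl_mul (hQ : Q.polarBilin.Nondegenerate) {v : ι → F} (hv : Q v ≠ 0)
    (g : ↥(Cfsg.isometryGroup F ⇑Q)) :
    ((Module.finrank F (resSp (refl Q v * g)) : ℕ) : ZMod 2)
      = (Module.finrank F (resSp g) : ZMod 2) + 1 := by
  by_cases h : v ∈ resSp g
  · rw [← res_drop hv h]; push_cast
    rw [add_assoc, show (1 : ZMod 2) + 1 = 0 from rfl, add_zero]
  · rw [res_rise hQ hv h]; push_cast; rfl

theorem res_one : Module.finrank F (resSp (1 : ↥(Cfsg.isometryGroup F ⇑Q))) = 0 := by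
  have : resSp (1 : ↥(Cfsg.isometryGroup F ⇑Q)) = ⊥ := by
    rw [Submodule.eq_bot_iff]
    intro x hx
    obtain ⟨u, rfl⟩ := mem_resSp.mp hx
    rw [act_one, sub_self]
  rw [this, finrank_bot]

/-- The Dickson invariant. -/
noncomputable def dickson (hQ : Q.polarBilin.Nondegenerate) (hgen : reflGroup Q = ⊤) :
    ↥(Cfsg.isometryGroup F ⇑Q) →* Multiplicative (ZMod 2) where
  toFun g := Multiplicative.ofAdd (Module.finrank F (resSp g) : ZMod 2)
  map_one' := by rw [res_one]; rfl
  map_mul' g h := by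
    suffices h' : ((Module.finrank F (resSp (g * h)) : ℕ) : ZMod 2)
        = (Module.finrank F (resSp g) : ZMod 2) + (Module.finrank F (resSp h) : ZMod 2) by
      rw [h']; rfl
    refine reflGroup_induction (Q := Q) (p := fun g =>
      ((Module.finrank F (resSp (g * h)) : ℕ) : ZMod 2)
        = (Module.finrank F (resSp g) : ZMod 2) + (Module.finrank F (resSp h) : ZMod 2)) ?_ ?_
      (hgen ▸ Subgroup.mem_top g)
    · rw [one_mul, res_one]; simp
    · intro v g hv ih
      rw [mul_assoc, parity_refl_mul hQ hv, parity_refl_mul hQ hv, ih]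
      ring

theorem dickson_refl (hQ : Q.polarBilin.Nondegenerate) (hgen : reflGroup Q = ⊤) {v : ι → F}
    (hv : Q v ≠ 0) : dickson hQ hgen (refl Q v) = Multiplicative.ofAdd 1 := by
  show Multiplicative.ofAdd _ = _
  have := parity_refl_mul hQ hv 1
  rw [mul_one, res_one] at this
  rw [this]; simp

theorem det_eq_one_two (hgen : reflGroup Q = ⊤) (g : ↥(Cfsg.isometryGroup F ⇑Q)) :
    detHom Q g = 1 := by
  refine reflGroup_induction (Q := Q) (p := fun g => detHom Q g = 1) (map_one _) ?_
    (hgen ▸ Subgroup.mem_top g)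
  intro v g hv ih
  rw [map_mul, ih, detHom_refl hv, mul_one]
  exact Units.ext (CharTwo.neg_eq 1)

theorem special_eq_top_two (hgen : reflGroup Q = ⊤) : Cfsg.specialIsometryGroup F ⇑Q = ⊤ := by
  rw [special_eq, MonoidHom.ker_eq_top_iff]
  exact MonoidHom.ext (det_eq_one_two hgen)

section Finite

variable [Fintype F]

theorem exists_link (hQ : Q.polarBilin.Nondegenerate)
    (hexc : (∃ c : F, c ≠ 0 ∧ c ≠ 1) ∨ Fintype.card ι ≠ 4)
    {u v : ι → F} (hu : Q u = 1) (hv : Q v = 1) (huv : polar ⇑Q u v = 0) (hne : u ≠ v) :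
    ∃ z, Q z = 1 ∧ polar ⇑Q u z ≠ 0 ∧ polar ⇑Q v z ≠ 0 := by
  classical
  have hu0 : u ≠ 0 := fun h => by simp [h] at hu
  have hli : LinearIndependent F ![u, v] := pair_li hu0 fun hm => by
    obtain ⟨k, rfl⟩ := Submodule.mem_span_singleton.mp hm
    rw [map_smul', hu, mul_one] at hv
    have : k = 1 := by
      rcases mul_self_eq_one_iff.mp hv with h | h
      · exact h
      · rw [h, CharTwo.neg_eq]
    exact hne (by rw [this, one_smul])
  obtain ⟨z₀, hz₀⟩ := exists_polar_eq hQ hli ![1, 1]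
  have huz : polar ⇑Q u z₀ = 1 := hz₀ 0
  have hvz : polar ⇑Q v z₀ = 1 := hz₀ 1
  have mk : ∀ h, polar ⇑Q u h = 0 → polar ⇑Q v h = 0 → Q (z₀ + h) ≠ 0 →
      ∃ z, Q z = 1 ∧ polar ⇑Q u z ≠ 0 ∧ polar ⇑Q v z ≠ 0 := by
    intro h hh1 hh2 hne0
    obtain ⟨r, hr⟩ := FiniteField.isSquare_of_char_two (F := F) (ringChar.eq F 2) (Q (z₀ + h))
    have hr0 : r ≠ 0 := fun h0 => hne0 (by rw [hr, h0, mul_zero])
    refine ⟨r⁻¹ • (z₀ + h), ?_, ?_, ?_⟩
    · rw [map_smul', hr]; field_simp
    · rw [QuadraticMap.polar_smul_right, QuadraticMap.polar_add_right, huz, hh1]; simp [hr0]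
    · rw [QuadraticMap.polar_smul_right, QuadraticMap.polar_add_right, hvz, hh2]; simp [hr0]
  by_contra hcon
  have hall : ∀ h, polar ⇑Q u h = 0 → polar ⇑Q v h = 0 → Q (z₀ + h) = 0 := fun h h1 h2 =>
    by_contra fun h3 => hcon (mk h h1 h2 h3)
  have hz0Q : Q z₀ = 0 := by
    simpa using hall 0 (by simp [QuadraticMap.polar_zero_right]) (by simp [QuadraticMap.polar_zero_right])
  by_cases hc : ∃ c : F, c ≠ 0 ∧ c ≠ 1
  · obtain ⟨c, hc0, hc1⟩ := hc
    have := hall (c • u) (by rw [QuadraticMap.polar_smul_right, polar_self_two, smul_zero])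
      (by rw [QuadraticMap.polar_smul_right, polar_comm, huv, smul_zero])
    rw [map_add', hz0Q, map_smul', hu, QuadraticMap.polar_smul_right, polar_comm, huz,
      smul_eq_mul] at this
    have hcc : c * (c + 1) = 0 := by linear_combination this
    rcases mul_eq_zero.mp hcc with h | h
    · exact hc0 h
    · exact hc1 (CharTwo.add_eq_zero.mp h)
  · apply hexc.resolve_left hc
    set U : Submodule F (ι → F) :=
      LinearMap.ker (Q.polarBilin u) ⊓ LinearMap.ker (Q.polarBilin v) with hU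
    have hadd : ∀ x ∈ U, ∀ y ∈ U, polar ⇑Q x y = 0 := by
      intro x hx y hy
      have h1 := hall x hx.1 hx.2
      have h2 := hall y hy.1 hy.2
      have h3 := hall (x + y) (add_mem hx hy).1 (add_mem hx hy).2
      rw [map_add', hz0Q] at h1 h2
      rw [map_add', hz0Q, map_add' Q x y, QuadraticMap.polar_add_right] at h3
      linear_combination h3 - h1 - h2
    have hrefl : Q.polarBilin.IsRefl := fun x y hxy => by
      show polar ⇑Q y x = 0
      rw [polar_comm]; exact hxy
    have hUeq : U = LinearMap.BilinForm.orthogonal Q.polarBilin (Submodule.span F (Set.range ![u, v])) := by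
      refine le_antisymm (fun x hx y hy => ?_) (fun x hx => ⟨hx u (Submodule.subset_span ⟨0, rfl⟩),
        hx v (Submodule.subset_span ⟨1, rfl⟩)⟩)
      show polar ⇑Q y x = 0
      induction hy using Submodule.span_induction with
      | mem y hy => obtain ⟨i, rfl⟩ := hy; fin_cases i; exacts [hx.1, hx.2]
      | zero => simp [QuadraticMap.polar_zero_left]
      | add y z _ _ h1 h2 => rw [QuadraticMap.polar_add_left, h1, h2, add_zero]
      | smul t y _ h1 => rw [QuadraticMap.polar_smul_left, h1, smul_zero]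
    have hdimS : Module.finrank F (Submodule.span F (Set.range ![u, v])) = 2 := by
      rw [finrank_span_eq_card hli]; rfl
    have hsub : Submodule.span F (Set.range ![u, v]) ≤ U := by
      rw [Submodule.span_le]
      rintro _ ⟨i, rfl⟩
      fin_cases i
      · exact ⟨polar_self_two Q u, show polar ⇑Q v u = 0 by rw [polar_comm, huv]⟩
      · exact ⟨huv, polar_self_two Q v⟩
    have hU2 : U ≤ Submodule.span F (Set.range ![u, v]) := by
      rw [← LinearMap.BilinForm.orthogonal_orthogonal hQ hrefl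
        (Submodule.span F (Set.range ![u, v])), ← hUeq]
      intro x hx y hy
      exact hadd y hy x hx
    have hdimU := LinearMap.BilinForm.finrank_orthogonal hQ
      (Submodule.span F (Set.range ![u, v]))
    rw [← hUeq, le_antisymm hU2 hsub, hdimS, Module.finrank_fintype_fun_eq_card] at hdimU
    omega

theorem hom_refl_const {A : Type*} [CommGroup A] (hQ : Q.polarBilin.Nondegenerate)
    (hexc : (∃ c : F, c ≠ 0 ∧ c ≠ 1) ∨ Fintype.card ι ≠ 4)
    (ψ : ↥(Cfsg.isometryGroup F ⇑Q) →* A) {u v : ι → F} (hu : Q u ≠ 0) (hv : Q v ≠ 0) :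
    ψ (refl Q u) = ψ (refl Q v) := by
  classical
  have norm : ∀ x, Q x ≠ 0 → ∃ y, Q y = 1 ∧ refl Q y = refl Q x := by
    intro x hx
    obtain ⟨r, hr⟩ := FiniteField.isSquare_of_char_two (F := F) (ringChar.eq F 2) (Q x)
    have hr0 : r ≠ 0 := fun h0 => hx (by rw [hr, h0, mul_zero])
    exact ⟨r⁻¹ • x, by rw [map_smul', hr]; field_simp, refl_smul hx (inv_ne_zero hr0)⟩
  have close : ∀ a b, Q a = 1 → Q b = 1 → polar ⇑Q a b ≠ 0 → ψ (refl Q a) = ψ (refl Q b) := by
    intro a b ha hb hab
    have hw : Q (a + b) ≠ 0 := by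
      rw [map_add', ha, hb, show (1 : F) + 1 = 0 from CharTwo.add_self_eq_zero 1, zero_add]
      exact hab
    have hab' : act (refl Q (a + b)) a = b := by
      have : (Q (a + b))⁻¹ * polar ⇑Q (a + b) a = 1 := by
        rw [map_add', ha, hb, show (1 : F) + 1 = 0 from CharTwo.add_self_eq_zero 1, zero_add,
          QuadraticMap.polar_add_left, polar_self_two, zero_add, polar_comm ⇑Q b a,
          inv_mul_cancel₀ hab]
      rw [act_refl hw, this, one_smul, sub_add_cancel_left, neg_vec]
    rw [← hab', ← conj_refl _ (by rw [ha]; exact one_ne_zero), map_mul, map_mul, map_inv,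
      mul_inv_cancel_comm]
  obtain ⟨a, ha, hau⟩ := norm u hu
  obtain ⟨b, hb, hbv⟩ := norm v hv
  rw [← hau, ← hbv]
  by_cases hne : a = b
  · rw [hne]
  by_cases hab : polar ⇑Q a b = 0
  · obtain ⟨z, hz, hza, hzb⟩ := exists_link hQ hexc ha hb hab hne
    rw [close a z ha hz hza, close z b hz hb (by rwa [polar_comm])]
  · exact close a b ha hb hab

theorem omega_index_two (hQ : Q.polarBilin.Nondegenerate)
    (hexc : (∃ c : F, c ≠ 0 ∧ c ≠ 1) ∨ Fintype.card ι ≠ 4) (hn : 1 ≤ Fintype.card ι) :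
    (Cfsg.Omega F ⇑Q).index = 2 := by
  have hgen := reflGroup_eq_top_of_char_two hQ hexc
  obtain ⟨a, ha⟩ : ∃ a, Q a ≠ 0 := by
    by_contra h
    push Not at h
    haveI : Nonempty ι := Fintype.card_pos_iff.mp hn
    obtain ⟨x, hx⟩ := exists_ne (0 : ι → F)
    exact hx (eq_zero_of_polar_eq_zero hQ fun y => by simp [polar, h])
  set δ := dickson hQ hgen
  have hsurj : Function.Surjective δ := by
    intro x
    obtain ⟨y, rfl⟩ : ∃ y, Multiplicative.ofAdd y = x := ⟨Multiplicative.toAdd x, rfl⟩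
    fin_cases y
    · exact ⟨1, map_one _⟩
    · exact ⟨refl Q a, dickson_refl hQ hgen ha⟩
  have hle : δ.ker ≤ Cfsg.Omega F ⇑Q := by
    intro g hg
    let π : ↥(Cfsg.isometryGroup F ⇑Q) →* Abelianization ↥(Cfsg.isometryGroup F ⇑Q) :=
      Abelianization.of
    have key : ∀ g, π g = π (refl Q a) ^ (Multiplicative.toAdd (δ g)).val := by
      intro g
      refine reflGroup_induction (Q := Q)
        (p := fun g => π g = π (refl Q a) ^ (Multiplicative.toAdd (δ g)).val) ?_ ?_
        (hgen ▸ Subgroup.mem_top g)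
      · rw [map_one, map_one]; simp
      · intro v g hv ih
        have he : π (refl Q a) ^ 2 = 1 := by
          rw [pow_two, ← map_mul, refl_mul_self ha, map_one]
        rw [map_mul, ih, hom_refl_const hQ hexc π hv ha, map_mul, dickson_refl hQ hgen hv,
          toAdd_mul, toAdd_ofAdd, ← pow_succ', ZMod.val_add, ZMod.val_one, ← pow_eq_pow_mod _ he,
          add_comm]
    have := key g
    rw [MonoidHom.mem_ker.mp hg] at this
    simp at this
    exact (QuotientGroup.eq_one_iff g).mp this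
  have heq : Cfsg.Omega F ⇑Q = δ.ker := le_antisymm (Abelianization.commutator_subset_ker _) hle
  rw [heq, Subgroup.index_ker, MonoidHom.range_eq_top.mpr hsurj]
  simp [Nat.card_eq_fintype_card]

theorem special_unique_index_two_two (hQ : Q.polarBilin.Nondegenerate)
    (hexc : (∃ c : F, c ≠ 0 ∧ c ≠ 1) ∨ Fintype.card ι ≠ 4) (hn : 1 ≤ Fintype.card ι) :
    ∃! H : Subgroup ↥(Cfsg.specialIsometryGroup F ⇑Q), H.index = 2 := by
  have hS := special_eq_top_two (reflGroup_eq_top_of_char_two hQ hexc)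
  rw [hS]
  set e := (Subgroup.topEquiv : (⊤ : Subgroup ↥(Cfsg.isometryGroup F ⇑Q)) ≃* _)
  have hΩ := omega_index_two hQ hexc hn
  have huniq : ∀ H : Subgroup ↥(Cfsg.isometryGroup F ⇑Q), H.index = 2 → H = Cfsg.Omega F ⇑Q := by
    intro H hH
    haveI := Subgroup.normal_of_index_eq_two hH
    have hle : Cfsg.Omega F ⇑Q ≤ H := by
      haveI : IsCyclic (↥(Cfsg.isometryGroup F ⇑Q) ⧸ H) :=
        isCyclic_of_prime_card (p := 2) (hp := ⟨Nat.prime_two⟩) (by rw [← Subgroup.index_eq_card, hH])
      letI := IsCyclic.commGroup (α := ↥(Cfsg.isometryGroup F ⇑Q) ⧸ H)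
      exact (Abelianization.commutator_subset_ker (QuotientGroup.mk' H)).trans
        (QuotientGroup.ker_mk' H).le
    refine le_antisymm ?_ hle
    have h := Subgroup.relIndex_mul_index hle
    rw [hH, hΩ] at h
    exact Subgroup.relIndex_eq_one.mp (by omega)
  refine ⟨(Cfsg.Omega F ⇑Q).comap e.toMonoidHom, ?_, ?_⟩
  · show ((Cfsg.Omega F ⇑Q).comap e.toMonoidHom).index = 2
    rw [Subgroup.index_comap_of_surjective _ e.surjective, hΩ]
  · intro H hH
    have h1 : H.map e.toMonoidHom = Cfsg.Omega F ⇑Q := by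
      apply huniq
      rw [← hH]
      exact Subgroup.index_map_equiv H e
    rw [← h1, Subgroup.comap_map_eq_self_of_injective e.injective]

end Finite

end Cfsg.Agent.Reflections
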