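import Cfsg.Agent.Lib.Reflections.OddIndex

/-!
The spinor norm of `-1`, and the quadratic forms of plus and minus type as `QuadraticForm`s.
-/

set_option autoImplicit false
set_option linter.unusedSectionVars false

namespace Cfsg.Agent.Reflections

open Matrix QuadraticMap
open scoped Matrix

variable {ι : Type} [Fintype ι] [DecidableEq ι] {F : Type*} [Field F]
variable {Q : QuadraticForm F (ι → F)}

theorem exists_mat_neg_one (h2 : (2 : F) ≠ 0) {κ : Type} [Fintype κ] [DecidableEq κ]
    (e : κ → ι → F) (hcard : Fintype.card κ = Fintype.card ι)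
    (ho : ∀ i j, i ≠ j → polar ⇑Q (e i) (e j) = 0) (hne : ∀ i, Q (e i) ≠ 0) :
    ∃ g : ↥(Cfsg.isometryGroup F ⇑Q), mat g = -1 ∧
      ∀ {A : Type} [CommGroup A] (ψ : ↥(Cfsg.isometryGroup F ⇑Q) →* A),
        ψ g = ∏ i, ψ (refl Q (e i)) := by
  have hli : LinearIndependent F e := by
    rw [Fintype.linearIndependent_iff]
    intro c hc j
    have h : Q.polarBilin (∑ i, c i • e i) (e j) = 0 := by rw [hc]; simp
    simp only [map_sum, LinearMap.sum_apply, map_smul, LinearMap.smul_apply, smul_eq_mul] at h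
    rw [Finset.sum_eq_single j (fun i _ hij => by
      show c i * polar ⇑Q (e i) (e j) = 0
      rw [ho i j hij, mul_zero]) (by simp)] at h
    refine (mul_eq_zero.mp h).resolve_right ?_
    show polar ⇑Q (e j) (e j) ≠ 0
    rw [polar_self']; exact mul_ne_zero h2 (hne j)
  have hspan : Submodule.span F (Set.range e) = ⊤ :=
    hli.span_eq_top_of_card_eq_finrank' (by rw [Module.finrank_fintype_fun_eq_card, hcard])
  suffices h : ∀ s : Finset κ, ∃ g : ↥(Cfsg.isometryGroup F ⇑Q),
      (∀ i, act g (e i) = if i ∈ s then -e i else e i) ∧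
      ∀ {A : Type} [CommGroup A] (ψ : ↥(Cfsg.isometryGroup F ⇑Q) →* A),
        ψ g = ∏ i ∈ s, ψ (refl Q (e i)) by
    obtain ⟨g, hg, hψ⟩ := h Finset.univ
    refine ⟨g, ?_, hψ⟩
    apply Matrix.ext_iff_mulVec.mpr
    intro x
    have hx : x ∈ Submodule.span F (Set.range e) := hspan ▸ Submodule.mem_top
    rw [Matrix.neg_mulVec, Matrix.one_mulVec]
    show act g x = -x
    induction hx using Submodule.span_induction with
    | mem y hy => obtain ⟨i, rfl⟩ := hy; simp [hg i]
    | zero => simp [act_zero]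
    | add y z _ _ hy hz => rw [act_add, hy, hz, neg_add]
    | smul t y _ hy => rw [act_smul, hy, smul_neg]
  intro s
  induction s using Finset.induction_on with
  | empty => exact ⟨1, fun i => by simp, fun ψ => by simp⟩
  | insert j s hj ih =>
    obtain ⟨g, hg, hψ⟩ := ih
    refine ⟨refl Q (e j) * g, fun i => ?_, fun ψ => ?_⟩
    · rw [act_mul, hg i]
      rcases eq_or_ne i j with rfl | hij
      · simp [hj, refl_self (hne i)]
      · have hf : act (refl Q (e j)) (e i) = e i := refl_fix (hne j) (ho j i (Ne.symm hij))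
        by_cases hi : i ∈ s
        · simp [hi, act_neg, hf]
        · simp [hi, hij, hf]
    · rw [map_mul, hψ, Finset.prod_insert hj]

theorem polarBilin_nondegenerate_of_orth (h2 : (2 : F) ≠ 0) {κ : Type} [Fintype κ] [DecidableEq κ]
    (e : κ → ι → F) (hcard : Fintype.card κ = Fintype.card ι)
    (ho : ∀ i j, i ≠ j → polar ⇑Q (e i) (e j) = 0) (hne : ∀ i, Q (e i) ≠ 0) :
    Q.polarBilin.Nondegenerate := by
  obtain ⟨g, hg, -⟩ := exists_mat_neg_one h2 e hcard ho hne
  suffices h : ∀ x, (∀ y, polar ⇑Q x y = 0) → x = 0 from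
    ⟨h, fun x hx => h x fun y => by rw [polar_comm]; exact hx y⟩
  intro x hx
  have hli : LinearIndependent F e := by
    rw [Fintype.linearIndependent_iff]
    intro c hc j
    have h : Q.polarBilin (∑ i, c i • e i) (e j) = 0 := by rw [hc]; simp
    simp only [map_sum, LinearMap.sum_apply, map_smul, LinearMap.smul_apply, smul_eq_mul] at h
    rw [Finset.sum_eq_single j (fun i _ hij => by
      show c i * polar ⇑Q (e i) (e j) = 0
      rw [ho i j hij, mul_zero]) (by simp)] at h
    refine (mul_eq_zero.mp h).resolve_right ?_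
    show polar ⇑Q (e j) (e j) ≠ 0
    rw [polar_self']; exact mul_ne_zero h2 (hne j)
  have hspan : x ∈ Submodule.span F (Set.range e) := by
    rw [hli.span_eq_top_of_card_eq_finrank' (by rw [Module.finrank_fintype_fun_eq_card, hcard])]
    exact Submodule.mem_top
  rw [Submodule.mem_span_range_iff_exists_fun] at hspan
  obtain ⟨c, rfl⟩ := hspan
  refine Finset.sum_eq_zero fun j _ => ?_
  have h : Q.polarBilin (∑ i, c i • e i) (e j) = 0 := hx (e j)
  simp only [map_sum, LinearMap.sum_apply, map_smul, LinearMap.smul_apply, smul_eq_mul] at h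
  rw [Finset.sum_eq_single j (fun i _ hij => by
    show c i * polar ⇑Q (e i) (e j) = 0
    rw [ho i j hij, mul_zero]) (by simp)] at h
  have : polar ⇑Q (e j) (e j) ≠ 0 := by rw [polar_self']; exact mul_ne_zero h2 (hne j)
  rw [(mul_eq_zero.mp h).resolve_right this, zero_smul]

/-- `-1 ∈ Ω` in even dimension is decided by the number of non-square values on an orthogonal basis. -/
theorem neg_one_mem_omega_iff [Fintype F] (h2 : (2 : F) ≠ 0) {κ : Type} [Fintype κ] [DecidableEq κ]
    [DecidablePred fun x : F => IsSquare x]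
    (e : κ → ι → F) (hcard : Fintype.card κ = Fintype.card ι) (hn : 2 ≤ Fintype.card ι)
    (hev : Even (Fintype.card ι))
    (ho : ∀ i j, i ≠ j → polar ⇑Q (e i) (e j) = 0) (hne : ∀ i, Q (e i) ≠ 0) :
    (∃ g : ↥(Cfsg.isometryGroup F ⇑Q), g ∈ Cfsg.Omega F ⇑Q ∧ mat g = -1) ↔
      Even (Finset.univ.filter fun i => ¬ IsSquare (Q (e i))).card := by
  have hQ := polarBilin_nondegenerate_of_orth h2 e hcard ho hne
  obtain ⟨ε, hε0, hε⟩ := exists_nonsquare_scalar h2
  obtain ⟨g, hg, hψ⟩ := exists_mat_neg_one h2 e hcard ho hne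
  rw [omega_eq_ker h2 hQ hn hε]
  set k := (Finset.univ.filter fun i => ¬ IsSquare (Q (e i))).card with hk
  have hval : ∀ i, theta Q ε (refl Q (e i)) = if ¬ IsSquare (Q (e i)) then -1 else 1 := by
    intro i
    rcases square_class hε (hne i) with ⟨t, ht, hi⟩ | ⟨t, ht, hi⟩
    · have hsq : IsSquare (Q (e i)) := ⟨t, by rw [hi]; ring⟩
      rw [if_neg (not_not.mpr hsq)]
      exact theta_refl_of_not_exists h2 (hne i) hε0
        (fun ⟨s, hs⟩ => hε ⟨s * t, by rw [← hs, hi]; ring⟩)
    · have hsq : ¬ IsSquare (Q (e i)) := fun ⟨s, hs⟩ => hε ⟨s / t, by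
        rw [hi] at hs; field_simp; linear_combination hs⟩
      rw [if_pos hsq]
      exact theta_refl_of_exists h2 (hne i) hε0 ⟨t⁻¹, by rw [hi]; field_simp⟩
  have hval1 : ∀ i, theta Q 1 (refl Q (e i)) = - (if ¬ IsSquare (Q (e i)) then -1 else 1) := by
    intro i
    rcases square_class hε (hne i) with ⟨t, ht, hi⟩ | ⟨t, ht, hi⟩
    · have hsq : IsSquare (Q (e i)) := ⟨t, by rw [hi]; ring⟩
      rw [if_neg (not_not.mpr hsq)]
      exact theta_refl_of_exists h2 (hne i) one_ne_zero ⟨t⁻¹, by rw [hi]; field_simp⟩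
    · have hsq : ¬ IsSquare (Q (e i)) := fun ⟨s, hs⟩ => hε ⟨s / t, by
        rw [hi] at hs; field_simp; linear_combination hs⟩
      rw [if_pos hsq, neg_neg]
      exact theta_refl_of_not_exists h2 (hne i) one_ne_zero
        (fun ⟨s, hs⟩ => hsq ⟨s⁻¹, by
          have hs0 : s ≠ 0 := by rintro rfl; simp at hs
          field_simp; linear_combination hs⟩)
  have h1 : theta Q ε g = (-1) ^ k := by
    rw [hψ]; simp only [hval]
    rw [Finset.prod_ite, Finset.prod_const, Finset.prod_const, one_pow, mul_one]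
  have h1' : theta Q 1 g = (-1) ^ k := by
    rw [hψ]; simp only [hval1]
    rw [Finset.prod_neg, Finset.card_univ, hcard, hev.neg_one_pow, one_mul, Finset.prod_ite,
      Finset.prod_const, Finset.prod_const, one_pow, mul_one]
  have hunique : ∀ g' : ↥(Cfsg.isometryGroup F ⇑Q), mat g' = -1 → g' = g :=
    fun g' h => eq_of_mat (h.trans hg.symm)
  constructor
  · rintro ⟨g', hmem, hg'⟩
    rw [hunique g' hg', MonoidHom.mem_ker] at hmem
    have := congrArg Prod.snd hmem
    simp [thetaPair, h1] at this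
    rcases Nat.even_or_odd k with h | h
    · exact h
    · rw [h.neg_one_pow] at this; exact absurd this (by decide)
  · intro h
    refine ⟨g, ?_, hg⟩
    rw [MonoidHom.mem_ker]
    simp [thetaPair, h1, h1', h.neg_one_pow]

/-- `Σ x_i y_i` as a quadratic form. -/
def qPlus (m : ℕ) (F : Type*) [Field F] : QuadraticForm F (Fin m ⊕ Fin m → F) :=
  ∑ i : Fin m, QuadraticMap.linMulLin (LinearMap.proj (Sum.inl i)) (LinearMap.proj (Sum.inr i))

theorem coe_qPlus (m : ℕ) (F : Type*) [Field F] :
    ⇑(qPlus m F) = Cfsg.quadFormPlus m F := by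
  funext v
  simp [qPlus, Cfsg.quadFormPlus]

/-- The form of minus type as a quadratic form. -/
def qMinus (m : ℕ) (F : Type*) [Field F] (a b : F) :
    QuadraticForm F ((Fin m ⊕ Fin m) ⊕ Fin 2 → F) :=
  (∑ i : Fin m, QuadraticMap.linMulLin (LinearMap.proj (Sum.inl (Sum.inl i)))
      (LinearMap.proj (Sum.inl (Sum.inr i)))) +
    (QuadraticMap.linMulLin (LinearMap.proj (Sum.inr 0)) (LinearMap.proj (Sum.inr 0)) +
      a • QuadraticMap.linMulLin (LinearMap.proj (Sum.inr 0)) (LinearMap.proj (Sum.inr 1)) +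
      b • QuadraticMap.linMulLin (LinearMap.proj (Sum.inr 1)) (LinearMap.proj (Sum.inr 1)))

theorem coe_qMinus (m : ℕ) (F : Type*) [Field F] (a b : F) :
    ⇑(qMinus m F a b) = Cfsg.quadFormMinus m F a b := by
  funext v
  simp [qMinus, Cfsg.quadFormMinus]
  ring

end Cfsg.Agent.Reflections
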