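import Cfsg.Prelude.Def_ClassicalGeometry

/-!
Reflections of a quadratic form given on `ι → F`: matrices as isometries, conjugation, determinant.
-/

set_option autoImplicit false
set_option linter.unusedSectionVars false

namespace Cfsg.Agent.Reflections

open Matrix QuadraticMap
open scoped Matrix

variable {ι : Type} [Fintype ι] [DecidableEq ι] {F : Type*} [Field F]
variable {Q : QuadraticForm F (ι → F)}

theorem polarVec_dot (Q : QuadraticForm F (ι → F)) (v x : ι → F) :
    Cfsg.polarVec ⇑Q v ⬝ᵥ x = polar ⇑Q v x := by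
  have hx : x = ∑ j, x j • (Pi.single j (1 : F)) := by
    funext i
    simp [Finset.sum_apply, Pi.single_apply]
  have h2 : polar ⇑Q v x = ∑ j, x j * polar ⇑Q v (Pi.single j 1) := by
    show Q.polarBilin v x = ∑ j, x j * Q.polarBilin v (Pi.single j 1)
    conv_lhs => rw [hx]
    simp
  rw [h2]
  simp [dotProduct, Cfsg.polarVec, mul_comm]

theorem reflectionMatrix_mulVec (Q : QuadraticForm F (ι → F)) (v x : ι → F) :
    Cfsg.reflectionMatrix ⇑Q v *ᵥ x = x - ((Q v)⁻¹ * polar ⇑Q v x) • v := by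
  rw [Cfsg.reflectionMatrix, Matrix.sub_mulVec, Matrix.one_mulVec, Matrix.smul_mulVec,
    Matrix.vecMulVec_mulVec, polarVec_dot]
  funext i
  simp only [Pi.sub_apply, Pi.smul_apply, smul_eq_mul, MulOpposite.smul_eq_mul_unop,
    MulOpposite.unop_op]
  ring

theorem polar_self' (Q : QuadraticForm F (ι → F)) (x : ι → F) : polar ⇑Q x x = 2 * Q x := by
  rw [QuadraticMap.polar_self, nsmul_eq_mul]; norm_num

theorem map_add' (Q : QuadraticForm F (ι → F)) (x y : ι → F) :
    Q (x + y) = Q x + Q y + polar ⇑Q x y := QuadraticMap.map_add ⇑Q x y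

theorem map_sub' (Q : QuadraticForm F (ι → F)) (x y : ι → F) :
    Q (x - y) = Q x + Q y - polar ⇑Q x y := by
  rw [sub_eq_add_neg, map_add', QuadraticMap.map_neg, QuadraticMap.polar_neg_right]; ring

theorem map_smul' (Q : QuadraticForm F (ι → F)) (a : F) (x : ι → F) :
    Q (a • x) = a * a * Q x := by
  rw [QuadraticMap.map_smul, smul_eq_mul]

theorem reflection_preserves (Q : QuadraticForm F (ι → F)) {v : ι → F} (hv : Q v ≠ 0)
    (x : ι → F) : Q (Cfsg.reflectionMatrix ⇑Q v *ᵥ x) = Q x := by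
  rw [reflectionMatrix_mulVec, map_sub', map_smul', QuadraticMap.polar_smul_right,
    polar_comm ⇑Q x v, smul_eq_mul]
  field_simp
  ring

theorem reflection_self (Q : QuadraticForm F (ι → F)) {v : ι → F} (hv : Q v ≠ 0) :
    Cfsg.reflectionMatrix ⇑Q v *ᵥ v = -v := by
  rw [reflectionMatrix_mulVec, polar_self']
  funext i
  simp only [Pi.sub_apply, Pi.smul_apply, Pi.neg_apply, smul_eq_mul]
  field_simp
  ring

theorem reflection_orth (Q : QuadraticForm F (ι → F)) {v x : ι → F}
    (hx : polar ⇑Q v x = 0) : Cfsg.reflectionMatrix ⇑Q v *ᵥ x = x := by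
  rw [reflectionMatrix_mulVec, hx, mul_zero, zero_smul, sub_zero]

theorem det_reflection (Q : QuadraticForm F (ι → F)) {v : ι → F} (hv : Q v ≠ 0) :
    (Cfsg.reflectionMatrix ⇑Q v).det = -1 := by
  have h : Cfsg.reflectionMatrix ⇑Q v = 1 + replicateCol Unit ((-(Q v)⁻¹) • v) *
      replicateRow Unit (Cfsg.polarVec ⇑Q v) := by
    rw [Cfsg.reflectionMatrix, ← Matrix.vecMulVec_eq, Matrix.smul_vecMulVec, neg_smul,
      sub_eq_add_neg]
  rw [h, Matrix.det_one_add_replicateCol_mul_replicateRow, dotProduct_smul, polarVec_dot,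
    polar_self', smul_eq_mul]
  field_simp
  ring

/-- The matrix of an isometry. -/
abbrev mat (g : ↥(Cfsg.isometryGroup F ⇑Q)) : Matrix ι ι F :=
  ((g : Matrix.GeneralLinearGroup ι F) : Matrix ι ι F)

/-- The action of an isometry on column vectors. -/
def act (g : ↥(Cfsg.isometryGroup F ⇑Q)) (x : ι → F) : ι → F := mat g *ᵥ x

theorem act_def (g : ↥(Cfsg.isometryGroup F ⇑Q)) (x : ι → F) :
    act g x = ((g : Matrix.GeneralLinearGroup ι F) : Matrix ι ι F) *ᵥ x := rfl

theorem act_mul (g h : ↥(Cfsg.isometryGroup F ⇑Q)) (x : ι → F) :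
    act (g * h) x = act g (act h x) := by
  simp [act, mat, Matrix.mulVec_mulVec]

@[simp] theorem act_one (x : ι → F) : act (1 : ↥(Cfsg.isometryGroup F ⇑Q)) x = x := by
  simp [act, mat]

@[simp] theorem act_inv_act (g : ↥(Cfsg.isometryGroup F ⇑Q)) (x : ι → F) :
    act g⁻¹ (act g x) = x := by rw [← act_mul, inv_mul_cancel, act_one]

@[simp] theorem act_act_inv (g : ↥(Cfsg.isometryGroup F ⇑Q)) (x : ι → F) :
    act g (act g⁻¹ x) = x := by rw [← act_mul, mul_inv_cancel, act_one]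

theorem act_add (g : ↥(Cfsg.isometryGroup F ⇑Q)) (x y : ι → F) :
    act g (x + y) = act g x + act g y := Matrix.mulVec_add _ _ _

theorem act_sub (g : ↥(Cfsg.isometryGroup F ⇑Q)) (x y : ι → F) :
    act g (x - y) = act g x - act g y := Matrix.mulVec_sub _ _ _

theorem act_smul (g : ↥(Cfsg.isometryGroup F ⇑Q)) (a : F) (x : ι → F) :
    act g (a • x) = a • act g x := Matrix.mulVec_smul _ _ _

theorem act_neg (g : ↥(Cfsg.isometryGroup F ⇑Q)) (x : ι → F) :
    act g (-x) = -act g x := Matrix.mulVec_neg _ _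

theorem act_zero (g : ↥(Cfsg.isometryGroup F ⇑Q)) : act g 0 = 0 := Matrix.mulVec_zero _

theorem act_injective (g : ↥(Cfsg.isometryGroup F ⇑Q)) : Function.Injective (act g) :=
  fun x y h => by simpa using congrArg (act g⁻¹) h

theorem act_Q (g : ↥(Cfsg.isometryGroup F ⇑Q)) (x : ι → F) : Q (act g x) = Q x := g.2 x x

theorem act_polar (g : ↥(Cfsg.isometryGroup F ⇑Q)) (x y : ι → F) :
    polar ⇑Q (act g x) (act g y) = polar ⇑Q x y := by
  simp [polar, ← act_add, act_Q]

theorem isom_ext {g h : ↥(Cfsg.isometryGroup F ⇑Q)} (H : ∀ x, act g x = act h x) : g = h :=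
  Subtype.ext (Units.ext (Matrix.ext_iff_mulVec.mpr H))

theorem eq_of_mat {g h : ↥(Cfsg.isometryGroup F ⇑Q)} (H : mat g = mat h) : g = h :=
  Subtype.ext (Units.ext H)

theorem mem_isometryGroup (Q : QuadraticForm F (ι → F)) (g : Matrix.GeneralLinearGroup ι F)
    (h : ∀ x, Q ((g : Matrix ι ι F) *ᵥ x) = Q x) : g ∈ Cfsg.isometryGroup F ⇑Q :=
  fun u _ => h u

/-- A matrix of non-zero determinant preserving `Q`, as an isometry. -/
noncomputable def mkIsom (Q : QuadraticForm F (ι → F)) (M : Matrix ι ι F) (hM : M.det ≠ 0)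
    (h : ∀ x, Q (M *ᵥ x) = Q x) : ↥(Cfsg.isometryGroup F ⇑Q) :=
  ⟨Matrix.GeneralLinearGroup.mkOfDetNeZero M hM, mem_isometryGroup Q _ h⟩

@[simp] theorem mat_mkIsom (Q : QuadraticForm F (ι → F)) (M : Matrix ι ι F) (hM : M.det ≠ 0)
    (h : ∀ x, Q (M *ᵥ x) = Q x) : mat (mkIsom Q M hM h) = M := rfl

/-- The reflection of `v` as an isometry (the identity if `Q v = 0`). -/
noncomputable def refl (Q : QuadraticForm F (ι → F)) (v : ι → F) :
    ↥(Cfsg.isometryGroup F ⇑Q) := by
  classical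
  exact if hv : Q v ≠ 0 then
    mkIsom Q (Cfsg.reflectionMatrix ⇑Q v) (by rw [det_reflection Q hv]; simp)
      (reflection_preserves Q hv)
  else 1

theorem mat_refl {v : ι → F} (hv : Q v ≠ 0) :
    mat (refl Q v) = Cfsg.reflectionMatrix ⇑Q v := by
  rw [refl, dif_pos hv, mat_mkIsom]

theorem act_refl {v : ι → F} (hv : Q v ≠ 0) (x : ι → F) :
    act (refl Q v) x = x - ((Q v)⁻¹ * polar ⇑Q v x) • v := by
  rw [act, mat_refl hv, reflectionMatrix_mulVec]

theorem refl_fix {v x : ι → F} (hv : Q v ≠ 0) (hx : polar ⇑Q v x = 0) :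
    act (refl Q v) x = x := by
  rw [act, mat_refl hv, reflection_orth Q hx]

theorem refl_self {v : ι → F} (hv : Q v ≠ 0) : act (refl Q v) v = -v := by
  rw [act, mat_refl hv, reflection_self Q hv]

theorem eq_refl_of_mat {g : ↥(Cfsg.isometryGroup F ⇑Q)} {v : ι → F} (hv : Q v ≠ 0)
    (hg : mat g = Cfsg.reflectionMatrix ⇑Q v) : g = refl Q v :=
  eq_of_mat (hg.trans (mat_refl hv).symm)

theorem refl_mul_self {v : ι → F} (hv : Q v ≠ 0) : refl Q v * refl Q v = 1 := by
  refine isom_ext fun x => ?_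
  rw [act_mul, act_one, act_refl hv x, act_sub, act_smul, refl_self hv, act_refl hv x]
  module

theorem refl_inv {v : ι → F} (hv : Q v ≠ 0) : (refl Q v)⁻¹ = refl Q v :=
  inv_eq_of_mul_eq_one_right (refl_mul_self hv)

theorem refl_smul {v : ι → F} (hv : Q v ≠ 0) {t : F} (ht : t ≠ 0) :
    refl Q (t • v) = refl Q v := by
  have ht2 : Q (t • v) ≠ 0 := by
    rw [map_smul']; exact mul_ne_zero (mul_ne_zero ht ht) hv
  refine isom_ext fun x => ?_
  rw [act_refl ht2, act_refl hv, map_smul', QuadraticMap.polar_smul_left, smul_eq_mul, smul_smul]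
  congr 2
  field_simp

theorem refl_neg {v : ι → F} (hv : Q v ≠ 0) : refl Q (-v) = refl Q v := by
  rw [← neg_one_smul F v, refl_smul hv (neg_ne_zero.mpr one_ne_zero)]

theorem conj_refl (g : ↥(Cfsg.isometryGroup F ⇑Q)) {v : ι → F} (hv : Q v ≠ 0) :
    g * refl Q v * g⁻¹ = refl Q (act g v) := by
  have hgv : Q (act g v) ≠ 0 := by rwa [act_Q]
  refine isom_ext fun x => ?_
  rw [act_mul, act_mul, act_refl hv, act_refl hgv, act_sub, act_smul, act_act_inv, act_Q,
    ← act_polar g v (act g⁻¹ x), act_act_inv]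

/-- The determinant on the isometry group. -/
noncomputable def detHom (Q : QuadraticForm F (ι → F)) :
    ↥(Cfsg.isometryGroup F ⇑Q) →* Fˣ :=
  Matrix.GeneralLinearGroup.det.comp (Cfsg.isometryGroup F ⇑Q).subtype

theorem detHom_val (g : ↥(Cfsg.isometryGroup F ⇑Q)) : ((detHom Q g : Fˣ) : F) = (mat g).det :=
  rfl

theorem detHom_refl {v : ι → F} (hv : Q v ≠ 0) : detHom Q (refl Q v) = -1 := by
  apply Units.ext
  rw [detHom_val, mat_refl hv, det_reflection Q hv]
  simp

theorem special_eq (Q : QuadraticForm F (ι → F)) :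
    Cfsg.specialIsometryGroup F ⇑Q = (detHom Q).ker := rfl

/-- The set of reflections. -/
def reflSet (Q : QuadraticForm F (ι → F)) : Set ↥(Cfsg.isometryGroup F ⇑Q) :=
  {g | ∃ v : ι → F, Q v ≠ 0 ∧ mat g = Cfsg.reflectionMatrix ⇑Q v}

/-- The subgroup generated by the reflections. -/
def reflGroup (Q : QuadraticForm F (ι → F)) : Subgroup ↥(Cfsg.isometryGroup F ⇑Q) :=
  Subgroup.closure (reflSet Q)

theorem refl_mem_set {v : ι → F} (hv : Q v ≠ 0) : refl Q v ∈ reflSet Q := ⟨v, hv, mat_refl hv⟩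

theorem refl_mem {v : ι → F} (hv : Q v ≠ 0) : refl Q v ∈ reflGroup Q :=
  Subgroup.subset_closure (refl_mem_set hv)

theorem exists_of_mem_reflSet {g : ↥(Cfsg.isometryGroup F ⇑Q)} (hg : g ∈ reflSet Q) :
    ∃ v : ι → F, Q v ≠ 0 ∧ g = refl Q v := by
  obtain ⟨v, hv, h⟩ := hg
  exact ⟨v, hv, eq_refl_of_mat hv h⟩

/-- Two homomorphisms which agree on the reflections agree on `reflGroup`. -/
theorem reflGroup_induction {p : ↥(Cfsg.isometryGroup F ⇑Q) → Prop}
    (h1 : p 1) (hmul : ∀ v g, Q v ≠ 0 → p g → p (refl Q v * g))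
    {g : ↥(Cfsg.isometryGroup F ⇑Q)} (hg : g ∈ reflGroup Q) : p g := by
  induction hg using Subgroup.closure_induction_left with
  | one => exact h1
  | mul_left x hx y _ ihy =>
    obtain ⟨v, hv, rfl⟩ := exists_of_mem_reflSet hx
    exact hmul v y hv ihy
  | inv_mul_cancel x hx y _ ihy =>
    obtain ⟨v, hv, rfl⟩ := exists_of_mem_reflSet hx
    rw [refl_inv hv]
    exact hmul v y hv ihy

/-! ### Non-degeneracy -/

theorem eq_zero_of_polar_eq_zero (hQ : Q.polarBilin.Nondegenerate) {v : ι → F}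
    (h : ∀ x, polar ⇑Q v x = 0) : v = 0 :=
  hQ.1 v h

theorem exists_polar_eq_one (hQ : Q.polarBilin.Nondegenerate) {v : ι → F} (hv : v ≠ 0) :
    ∃ x, polar ⇑Q v x = 1 := by
  obtain ⟨x, hx⟩ : ∃ x, polar ⇑Q v x ≠ 0 := by
    by_contra h
    push Not at h
    exact hv (eq_zero_of_polar_eq_zero hQ h)
  exact ⟨(polar ⇑Q v x)⁻¹ • x, by
    rw [QuadraticMap.polar_smul_right, smul_eq_mul, inv_mul_cancel₀ hx]⟩

/-- Against a linearly independent family the polar form takes arbitrary values. -/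
theorem exists_polar_eq (hQ : Q.polarBilin.Nondegenerate) {k : Type} [Fintype k]
    {v : k → (ι → F)} (hv : LinearIndependent F v) (c : k → F) :
    ∃ x, ∀ i, polar ⇑Q (v i) x = c i := by
  classical
  let L : (ι → F) →ₗ[F] (k → F) := LinearMap.pi fun i => Q.polarBilin (v i)
  suffices h : Function.Surjective L by
    obtain ⟨x, hx⟩ := h c
    exact ⟨x, fun i => congrFun hx i⟩
  rw [← LinearMap.range_eq_top]
  by_contra hne
  obtain ⟨φ, hφ0, hφ⟩ := Submodule.exists_le_ker_of_lt_top _ (lt_top_iff_ne_top.mpr hne)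
  apply hφ0
  have hsum : ∀ y : k → F, φ y = ∑ i, y i * φ (Pi.single i 1) := by
    intro y
    have hy : y = ∑ i, y i • (Pi.single i (1 : F)) := by
      funext i
      simp [Finset.sum_apply, Pi.single_apply]
    conv_lhs => rw [hy]
    simp
  have hz : ∑ i, φ (Pi.single i 1) • v i = 0 := by
    apply eq_zero_of_polar_eq_zero hQ
    intro x
    have h0 : φ (L x) = 0 := hφ (LinearMap.mem_range_self L x)
    rw [hsum] at h0
    show Q.polarBilin (∑ i, φ (Pi.single i 1) • v i) x = 0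
    simp only [map_sum, LinearMap.sum_apply, map_smul, LinearMap.smul_apply, smul_eq_mul]
    rw [← h0]
    refine Finset.sum_congr rfl fun i _ => ?_
    rw [mul_comm]
    rfl
  have := Fintype.linearIndependent_iff.mp hv _ hz
  refine LinearMap.ext fun y => ?_
  simp [hsum y, this]

end Cfsg.Agent.Reflections
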