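import Cfsg.Agent.Lib.Reflections.CharTwo
import Cfsg.Agent.Lib.Reflections.OddIndex

/-!
Both characteristics at once.
-/

set_option autoImplicit false
set_option linter.unusedSectionVars false

namespace Cfsg.Agent.Reflections

variable {ι : Type} [Fintype ι] [DecidableEq ι] {F : Type*} [Field F] [Fintype F]
variable {Q : QuadraticForm F (ι → F)}

theorem exc_of_card {n : ℕ} (h : Fintype.card F ≠ 2 ∨ n ≠ 4) :
    (∃ c : F, c ≠ 0 ∧ c ≠ 1) ∨ n ≠ 4 := by
  rcases h with h | h
  · left
    classical
    by_contra hc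
    push Not at hc
    have hu : (Finset.univ : Finset F) = {0, 1} := by
      ext x; simp only [Finset.mem_univ, Finset.mem_insert, Finset.mem_singleton, true_iff]
      exact or_iff_not_imp_left.mpr (hc x)
    apply h
    rw [← Finset.card_univ, hu, Finset.card_pair zero_ne_one]
  · exact Or.inr h

theorem reflGroup_eq_top (hQ : Q.polarBilin.Nondegenerate)
    (h : Fintype.card F ≠ 2 ∨ Fintype.card ι ≠ 4) : reflGroup Q = ⊤ := by
  by_cases h2 : (2 : F) = 0
  · haveI : CharP F 2 := CharTwo.of_one_ne_zero_of_two_eq_zero one_ne_zero h2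
    exact reflGroup_eq_top_of_char_two hQ (exc_of_card h)
  · exact reflGroup_eq_top_of_two_ne_zero h2 hQ

theorem special_unique_index_two_any (hQ : Q.polarBilin.Nondegenerate)
    (hn : 2 ≤ Fintype.card ι) (h : Fintype.card F ≠ 2 ∨ Fintype.card ι ≠ 4) :
    ∃! H : Subgroup ↥(Cfsg.specialIsometryGroup F ⇑Q), H.index = 2 := by
  by_cases h2 : (2 : F) = 0
  · haveI : CharP F 2 := CharTwo.of_one_ne_zero_of_two_eq_zero one_ne_zero h2
    exact special_unique_index_two_two hQ (exc_of_card h) (by omega)
  · exact special_unique_index_two h2 hQ hn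

end Cfsg.Agent.Reflections
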