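import Cfsg.Agent.Lib.Reflections.Basic

/-!
Odd characteristic: transitivity on anisotropic vectors and generation by reflections (any field with `2 ≠ 0`).
-/

set_option autoImplicit false
set_option linter.unusedSectionVars false

namespace Cfsg.Agent.Reflections

open Matrix QuadraticMap
open scoped Matrix

variable {ι : Type} [Fintype ι] [DecidableEq ι] {F : Type*} [Field F]
variable {Q : QuadraticForm F (ι → F)}

/-- One-vector Witt theorem, realised by reflections fixing the common orthogonal complement. -/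
theorem exists_map_eq (h2 : (2 : F) ≠ 0) {u w : ι → F} (hu : Q u ≠ 0) (huw : Q u = Q w) :
    ∃ h ∈ reflGroup Q, act h u = w ∧
      ∀ x, polar ⇑Q u x = 0 → polar ⇑Q w x = 0 → act h x = x := by
  by_cases hd : Q (u - w) ≠ 0
  · refine ⟨refl Q (u - w), refl_mem hd, ?_, fun x hx hy => refl_fix hd ?_⟩
    · have key : (Q (u - w))⁻¹ * polar ⇑Q (u - w) u = 1 := by
        have : polar ⇑Q (u - w) u = Q (u - w) := by
          rw [map_sub', QuadraticMap.polar_sub_left, polar_self', polar_comm ⇑Q w u, ← huw]; ring
        rw [this, inv_mul_cancel₀ hd]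
      rw [act_refl hd, key, one_smul, sub_sub_cancel]
    · rw [QuadraticMap.polar_sub_left, hx, hy, sub_zero]
  · push Not at hd
    have hw : Q w ≠ 0 := huw ▸ hu
    have h4 : Q (u + w) = 4 * Q u := by
      rw [map_sub'] at hd
      rw [map_add']
      linear_combination -hd - 2 * huw
    have hs : Q (u + w) ≠ 0 := by
      rw [h4, show (4 : F) = 2 * 2 by norm_num]
      exact mul_ne_zero (mul_ne_zero h2 h2) hu
    refine ⟨refl Q w * refl Q (u + w), mul_mem (refl_mem hw) (refl_mem hs), ?_, fun x hx hy => ?_⟩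
    · have key : (Q (u + w))⁻¹ * polar ⇑Q (u + w) u = 1 := by
        have : polar ⇑Q (u + w) u = Q (u + w) := by
          rw [map_add', QuadraticMap.polar_add_left, polar_self', polar_comm ⇑Q w u, ← huw]; ring
        rw [this, inv_mul_cancel₀ hs]
      rw [act_mul, act_refl hs, key, one_smul, sub_add_cancel_left, act_neg, refl_self hw, neg_neg]
    · rw [act_mul, refl_fix hs (by rw [QuadraticMap.polar_add_left, hx, hy, add_zero]),
        refl_fix hw hy]

theorem exists_orth_basis (h2 : (2 : F) ≠ 0) (hQ : Q.polarBilin.Nondegenerate) :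
    ∃ e : Module.Basis (Fin (Module.finrank F (ι → F))) F (ι → F),
      (∀ i j, i ≠ j → polar ⇑Q (e i) (e j) = 0) ∧ ∀ i, Q (e i) ≠ 0 := by
  letI : Invertible (2 : F) := invertibleOfNonzero h2
  obtain ⟨e, he⟩ := LinearMap.BilinForm.exists_orthogonal_basis (B := Q.polarBilin)
    ⟨fun x y => polar_comm ⇑Q x y⟩
  have ho : ∀ i j, i ≠ j → polar ⇑Q (e i) (e j) = 0 := fun i j h => he h
  refine ⟨e, ho, fun i hi => ?_⟩
  refine e.ne_zero i (eq_zero_of_polar_eq_zero hQ fun x => ?_)
  have hall : ∀ j, polar ⇑Q (e i) (e j) = 0 := by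
    intro j
    by_cases h : i = j
    · subst h; rw [polar_self', hi, mul_zero]
    · exact ho i j h
  have : Q.polarBilin (e i) = 0 := e.ext fun j => hall j
  exact LinearMap.congr_fun this x

/-- Generation by reflections in characteristic `≠ 2`. -/
theorem reflGroup_eq_top_of_two_ne_zero (h2 : (2 : F) ≠ 0) (hQ : Q.polarBilin.Nondegenerate) :
    reflGroup Q = ⊤ := by
  classical
  obtain ⟨e, ho, hne⟩ := exists_orth_basis h2 hQ
  rw [eq_top_iff]
  intro g _
  suffices h : ∀ s : Finset (Fin (Module.finrank F (ι → F))),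
      ∃ h ∈ reflGroup Q, ∀ i ∈ s, act (h * g) (e i) = e i by
    obtain ⟨h, hh, hfix⟩ := h Finset.univ
    have hone : h * g = 1 := by
      refine isom_ext fun x => ?_
      have : (mat (h * g)).mulVecLin = LinearMap.id :=
        e.ext fun i => hfix i (Finset.mem_univ i)
      rw [act_one]; simpa [act] using LinearMap.congr_fun this x
    have : g = h⁻¹ := eq_inv_of_mul_eq_one_right hone
    rw [this]; exact inv_mem hh
  intro s
  induction s using Finset.induction_on with
  | empty => exact ⟨1, one_mem _, by simp⟩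
  | insert j s hj ih =>
    obtain ⟨h, hh, hfix⟩ := ih
    have hw : Q (act (h * g) (e j)) ≠ 0 := by rw [act_Q]; exact hne j
    obtain ⟨k, hk, hkj, hkfix⟩ := exists_map_eq h2 hw (act_Q (h * g) (e j))
    refine ⟨k * h, mul_mem hk hh, fun i hi => ?_⟩
    rw [mul_assoc, act_mul]
    rcases Finset.mem_insert.mp hi with rfl | hi
    · exact hkj
    · have hji : j ≠ i := fun he => hj (he ▸ hi)
      rw [hfix i hi]
      refine hkfix _ ?_ (ho j i hji)
      rw [← hfix i hi, act_polar]
      exact ho j i hji

end Cfsg.Agent.Reflections
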