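import Cfsg.Agent.Lib.Reflections.OddGen

/-!
The spinor norm over a finite field of odd characteristic, as the sign of the permutation induced on
`{x | Q x = c}`; the index of the commutator subgroup.
-/

set_option autoImplicit false
set_option linter.unusedSectionVars false

namespace Cfsg.Agent.Reflections

open Matrix QuadraticMap
open scoped Matrix

variable {ι : Type} [Fintype ι] [DecidableEq ι] {F : Type*} [Field F]
variable {Q : QuadraticForm F (ι → F)}

theorem four_dvd_card {α : Type*} [DecidableEq α] (a b : α → α) (s : Finset α)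
    (ha : ∀ x ∈ s, a x ∈ s) (hb : ∀ x ∈ s, b x ∈ s) (haa : ∀ x, a (a x) = x)
    (hbb : ∀ x, b (b x) = x) (hab : ∀ x, a (b x) = b (a x))
    (h1 : ∀ x ∈ s, a x ≠ x) (h2 : ∀ x ∈ s, b x ≠ x) (h3 : ∀ x ∈ s, a (b x) ≠ x) :
    4 ∣ s.card := by
  induction s using Finset.strongInduction with
  | _ s ih =>
    rcases s.eq_empty_or_nonempty with rfl | ⟨x, hx⟩
    · simp
    · set t : Finset α := {x, a x, b x, a (b x)} with ht
      have hts : t ⊆ s := by
        intro y hy
        simp only [ht, Finset.mem_insert, Finset.mem_singleton] at hy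
        rcases hy with rfl | rfl | rfl | rfl
        exacts [hx, ha _ hx, hb _ hx, ha _ (hb _ hx)]
      have n1 := h1 x hx
      have n2 := h2 x hx
      have n3 := h3 x hx
      have n4 : a x ≠ b x := fun h => n3 (by rw [← h, haa])
      have n5 : a x ≠ a (b x) := fun h => n2 (by
        have := congrArg a h; rwa [haa, haa, eq_comm] at this)
      have n6 : b x ≠ a (b x) := fun h => h1 (b x) (hb x hx) h.symm
      have hc : t.card = 4 := Finset.card_eq_four.mpr
        ⟨x, a x, b x, a (b x), n1.symm, n2.symm, n3.symm, n4, n5, n6, ht⟩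
      have hmem : ∀ y, a y ∈ t → y ∈ t := by
        intro y hy
        simp only [ht, Finset.mem_insert, Finset.mem_singleton] at hy ⊢
        rcases hy with h | h | h | h <;> apply_fun a at h <;> simp only [haa] at h <;> simp [h]
      have hmem' : ∀ y, b y ∈ t → y ∈ t := by
        intro y hy
        simp only [ht, Finset.mem_insert, Finset.mem_singleton] at hy ⊢
        rcases hy with h | h | h | h <;> apply_fun b at h <;>
          simp only [hbb, hab] at h <;> simp [h, hab]
      have hsub : s \ t ⊂ s :=
        Finset.sdiff_ssubset hts ⟨x, by simp [ht]⟩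
      have := ih _ hsub
        (fun y hy => Finset.mem_sdiff.mpr ⟨ha _ (Finset.mem_sdiff.mp hy).1,
          fun h => (Finset.mem_sdiff.mp hy).2 (hmem y h)⟩)
        (fun y hy => Finset.mem_sdiff.mpr ⟨hb _ (Finset.mem_sdiff.mp hy).1,
          fun h => (Finset.mem_sdiff.mp hy).2 (hmem' y h)⟩)
        (fun y hy => h1 y (Finset.mem_sdiff.mp hy).1) (fun y hy => h2 y (Finset.mem_sdiff.mp hy).1)
        (fun y hy => h3 y (Finset.mem_sdiff.mp hy).1)
      have hcard : (s \ t).card + t.card = s.card := Finset.card_sdiff_add_card_eq_card hts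
      omega

/-- The permutation induced on the vectors of value `c`. -/
def permX (Q : QuadraticForm F (ι → F)) (c : F) :
    ↥(Cfsg.isometryGroup F ⇑Q) →* Equiv.Perm {x : ι → F // Q x = c} where
  toFun g :=
    { toFun := fun x => ⟨act g x.1, by rw [act_Q]; exact x.2⟩
      invFun := fun x => ⟨act g⁻¹ x.1, by rw [act_Q]; exact x.2⟩
      left_inv := fun x => by simp
      right_inv := fun x => by simp }
  map_one' := by ext x : 2; simp
  map_mul' g h := by ext x : 2; simp [act_mul]

@[simp] theorem permX_apply (c : F) (g : ↥(Cfsg.isometryGroup F ⇑Q))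
    (x : {x : ι → F // Q x = c}) : (permX Q c g x).1 = act g x.1 := rfl

variable [Fintype F]

/-- The sign of the permutation on the vectors of value `c`: the spinor norm (up to determinant). -/
noncomputable def theta (Q : QuadraticForm F (ι → F)) (c : F) :
    ↥(Cfsg.isometryGroup F ⇑Q) →* ℤˣ := by
  classical
  exact (Equiv.Perm.sign).comp (permX Q c)

theorem theta_eq [DecidableEq F] (c : F) (g : ↥(Cfsg.isometryGroup F ⇑Q)) :
    theta Q c g = Equiv.Perm.sign (permX Q c g) := by
  rw [theta]
  simp only [MonoidHom.comp_apply]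
  convert rfl

theorem theta_refl_aux (h2 : (2 : F) ≠ 0) {v : ι → F} (hv : Q v ≠ 0) {c : F} (hc : c ≠ 0) :
    ((∃ t : F, t * t * Q v = c) → theta Q c (refl Q v) = -1) ∧
      ((¬ ∃ t : F, t * t * Q v = c) → theta Q c (refl Q v) = 1) := by
  classical
  set σ := permX Q c (refl Q v) with hσ
  have hσ2 : σ ^ 2 = 1 := by rw [hσ, ← map_pow, pow_two, refl_mul_self hv, map_one]
  rw [theta_eq, Equiv.Perm.sign_of_pow_two_eq_one hσ2]
  set R : (ι → F) → (ι → F) := fun x => act (refl Q v) x with hR
  set M : Finset (ι → F) := Finset.univ.filter (fun x => Q x = c ∧ R x ≠ x) with hM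
  have hMcard : Fintype.card {x : ι → F // Q x = c} - Fintype.card (Function.fixedPoints σ)
      = M.card := by
    rw [show Fintype.card (Function.fixedPoints σ)
        = Fintype.card {x : {x : ι → F // Q x = c} // σ x = x} from
        Fintype.card_congr (Equiv.subtypeEquivRight fun _ => Iff.rfl),
      ← Fintype.card_subtype_compl]
    rw [hM, ← Fintype.card_subtype]
    refine Fintype.card_congr
      (((Equiv.subtypeEquivRight fun x => not_congr Subtype.ext_iff)).trans
        (Equiv.subtypeSubtypeEquivSubtypeInter (fun x : ι → F => Q x = c) (fun x => ¬ R x = x)))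
  set M₁ := M.filter (fun x => R x = -x) with hM₁
  set M₀ := M.filter (fun x => ¬ R x = -x) with hM₀
  have hsplit : M₁.card + M₀.card = M.card := Finset.card_filter_add_card_filter_not _
  have hRR : ∀ x, R (R x) = x := fun x => by
    simp only [hR, ← act_mul, refl_mul_self hv, act_one]
  have hRneg : ∀ x, R (-x) = -R x := fun x => act_neg _ x
  have hmem0 : ∀ x, x ∈ M₀ ↔ (Q x = c ∧ R x ≠ x) ∧ ¬ R x = -x := by
    intro x; simp [hM₀, hM]
  have h4 : 4 ∣ M₀.card := by
    refine four_dvd_card R (fun x => -x) M₀ ?_ ?_ hRR neg_neg hRneg ?_ ?_ ?_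
    · intro x hx
      obtain ⟨⟨h1, h3⟩, h5⟩ := (hmem0 x).mp hx
      refine (hmem0 _).mpr ⟨⟨by simp only [hR]; rw [act_Q]; exact h1,
        fun h => h3 ?_⟩, fun h => h5 ?_⟩
      · rw [hRR] at h; exact h.symm
      · rw [hRR] at h; conv_rhs => rw [h]
        rw [neg_neg]
    · intro x hx
      obtain ⟨⟨h1, h3⟩, h5⟩ := (hmem0 x).mp hx
      refine (hmem0 _).mpr ⟨⟨by rw [QuadraticMap.map_neg]; exact h1,
        fun h => h3 (neg_injective (by rwa [hRneg] at h))⟩,
        fun h => h5 (neg_injective (by rwa [hRneg] at h))⟩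
    · intro x hx; exact ((hmem0 x).mp hx).1.2
    · intro x hx h
      obtain ⟨⟨h1, -⟩, -⟩ := (hmem0 x).mp hx
      apply hc
      have hx0 : x = 0 := by
        funext i
        have : -x i = x i := congrFun h i
        have h' : (2 : F) * x i = 0 := by linear_combination -this
        exact (mul_eq_zero.mp h').resolve_left h2
      rw [← h1, hx0, QuadraticMap.map_zero]
    · intro x hx h
      obtain ⟨-, h5⟩ := (hmem0 x).mp hx
      rw [hRneg] at h
      exact h5 (neg_eq_iff_eq_neg.mp h)
  have hmem1 : ∀ x, x ∈ M₁ ↔ ∃ t : F, t * t * Q v = c ∧ x = t • v := by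
    intro x
    simp only [hM₁, hM, Finset.mem_filter, Finset.mem_univ, true_and]
    constructor
    · rintro ⟨⟨h1, -⟩, h5⟩
      have hk : act (refl Q v) x = -x := h5
      rw [act_refl hv] at hk
      refine ⟨(Q v)⁻¹ * polar ⇑Q v x / 2, ?_, ?_⟩
      · have hx : x = ((Q v)⁻¹ * polar ⇑Q v x / 2) • v := by
          funext i
          have := congrFun hk i
          simp only [Pi.sub_apply, Pi.smul_apply, Pi.neg_apply, smul_eq_mul] at this ⊢
          field_simp at this ⊢
          linear_combination this
        conv_rhs => rw [← h1, hx, map_smul']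
      · funext i
        have := congrFun hk i
        simp only [Pi.sub_apply, Pi.smul_apply, Pi.neg_apply, smul_eq_mul] at this ⊢
        field_simp at this ⊢
        linear_combination this
    · rintro ⟨t, ht, rfl⟩
      have hneg : R (t • v) = -(t • v) := by
        simp only [hR]; rw [act_smul, refl_self hv, smul_neg]
      refine ⟨⟨by rw [map_smul', ht], ?_⟩, hneg⟩
      rw [hneg]
      intro h
      obtain ⟨i, hi⟩ : ∃ i, v i ≠ 0 := Function.ne_iff.mp (fun h0 : v = 0 => hv (by simp [h0]))
      have := congrFun h i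
      simp only [Pi.neg_apply, Pi.smul_apply, smul_eq_mul] at this
      have h' : (2 : F) * (t * v i) = 0 := by linear_combination -this
      rcases mul_eq_zero.mp ((mul_eq_zero.mp h').resolve_left h2) with h'' | h''
      · apply hc; rw [← ht, h'']; ring
      · exact hi h''
  rw [hMcard, ← hsplit]
  obtain ⟨k, hk⟩ := h4
  constructor
  · rintro ⟨t, ht⟩
    have ht0 : t ≠ 0 := by rintro rfl; exact hc (by simpa using ht.symm)
    have hv0 : v ≠ 0 := fun h => hv (by simp [h])
    have hne : t • v ≠ (-t) • v := by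
      intro h
      have h' := smul_left_injective F hv0 h
      exact ht0 ((mul_eq_zero.mp (show (2 : F) * t = 0 by linear_combination h')).resolve_left h2)
    have h1c : M₁ = {t • v, (-t) • v} := by
      ext x
      rw [hmem1, Finset.mem_insert, Finset.mem_singleton]
      constructor
      · rintro ⟨s, hs, rfl⟩
        have : (s - t) * (s + t) = 0 := by
          have := mul_right_cancel₀ hv (hs.trans ht.symm)
          linear_combination this
        rcases mul_eq_zero.mp this with h | h
        · left; rw [sub_eq_zero.mp h]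
        · right; rw [eq_neg_of_add_eq_zero_left h]
      · rintro (rfl | rfl)
        · exact ⟨t, ht, rfl⟩
        · exact ⟨-t, by rw [← ht]; ring, rfl⟩
    rw [h1c, Finset.card_pair hne, hk, show (2 + 4 * k) / 2 = 2 * k + 1 by omega, pow_succ,
      pow_mul]
    simp
  · intro hno
    have h1c : M₁ = ∅ := by
      refine Finset.eq_empty_of_forall_notMem fun x hx => ?_
      obtain ⟨t, ht, -⟩ := (hmem1 x).mp hx
      exact hno ⟨t, ht⟩
    rw [h1c, Finset.card_empty, hk, show (0 + 4 * k) / 2 = 2 * k by omega, pow_mul]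
    simp

theorem theta_refl_of_exists (h2 : (2 : F) ≠ 0) {v : ι → F} (hv : Q v ≠ 0) {c : F} (hc : c ≠ 0)
    (h : ∃ t : F, t * t * Q v = c) : theta Q c (refl Q v) = -1 :=
  (theta_refl_aux h2 hv hc).1 h

theorem theta_refl_of_not_exists (h2 : (2 : F) ≠ 0) {v : ι → F} (hv : Q v ≠ 0) {c : F}
    (hc : c ≠ 0) (h : ¬ ∃ t : F, t * t * Q v = c) : theta Q c (refl Q v) = 1 :=
  (theta_refl_aux h2 hv hc).2 h

end Cfsg.Agent.Reflections
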